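import Mathlib
import Cfsg.Agent.Lib.StdG.Fk2
import Cfsg.Agent.Lib.Class2.Basic

/-!
# A quasisimple normal subgroup of `C(t)` with quaternion Sylow 2-subgroups: the action of a Sylow 2-subgroup
-/

set_option autoImplicit false
set_option linter.unusedSectionVars false

namespace CfsgLib.StdExc

open Subgroup Cfsg CfsgLib.Tech CfsgLib.StdG CfsgLib.StdG.Fk CfsgLib.Gold.App
open scoped commutatorElement

variable {G : Type*} [Group G] [Finite G]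

local notation "𝒞[" x "]" => centralizer ({x} : Set G)

theorem mul_mem_iff_iff {P : Subgroup G} {a b : G} (h : a ∉ P → b ∉ P → a * b ∈ P) :
    a * b ∈ P ↔ (a ∈ P ↔ b ∈ P) := by
  by_cases ha : a ∈ P
  · simp [ha, mul_mem_cancel_left ha]
  · by_cases hb : b ∈ P
    · simp [hb, mul_mem_cancel_right hb]
    · simp [ha, hb, h ha hb]

/-- Thompson transfer for a subgroup of index at most two given by a predicate -/
theorem thompson_pred {S : Subgroup G} (hS : IsSylowIn 2 S ⊤) (h2 : ∀ M : Subgroup G, M.index ≠ 2) {f : G → Prop}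
    (hf : ∀ a ∈ S, ∀ b ∈ S, f (a * b) ↔ (f a ↔ f b)) {u : G} (hu : orderOf u = 2) :
    ∃ g, g * u * g⁻¹ ∈ S ∧ f (g * u * g⁻¹) := by
  have h1 : f 1 := by simpa using hf 1 (one_mem _) 1 (one_mem _)
  let M : Subgroup G :=
    { carrier := {y | y ∈ S ∧ f y}
      mul_mem' := fun {a b} ha hb => ⟨mul_mem ha.1 hb.1, (hf a ha.1 b hb.1).2 (iff_of_true ha.2 hb.2)⟩
      one_mem' := ⟨one_mem _, h1⟩
      inv_mem' := fun {a} ha => ⟨inv_mem ha.1, ((hf a ha.1 _ (inv_mem ha.1)).1 (by simpa using h1)).1 ha.2⟩ }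
  by_cases h : ∀ y ∈ S, f y
  · obtain ⟨g, -, hg⟩ := hS.exists_conj_mem (mem_top u) (isPGroup_zpowers_iff.2 ⟨1, hu⟩)
    exact ⟨g, hg, h _ hg⟩
  push Not at h
  obtain ⟨a, ha, fa⟩ := h
  refine Transfer.exists_conj_mem_of_no_index_two (Q := M) h2 (relIndex_top_right S ▸ hS.not_dvd)
    (relIndex_eq_two_iff.2 ⟨a, ha, fun b hb => ?_⟩) hu
  have := hf b hb a ha
  change Xor (_ ∧ _) (_ ∧ _)
  simp only [mul_mem hb ha, hb, true_and, this]
  by_cases fb : f b <;> simp [fb, fa]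

theorem index_ne_two_of_perfect {A : Type*} [Group A] (h : Group.IsPerfect A) (M : Subgroup A) : M.index ≠ 2 :=
  fun e => by
    have := normal_of_index_eq_two e
    have h1 : IsMulCommutative (A ⧸ M) := (isCyclic_of_prime_card (p := 2) e).isMulCommutative
    have h2 := (Normal.quotient_commutative_iff_commutator_le).1 h1
    rw [h.commutator_eq_top, top_le_iff] at h2
    simp [h2] at e

/-- a root of `u` commutes with `v` -/
def Rt (u v : G) : Prop := ∃ y, y * y = u ∧ y * v = v * y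

theorem Rt.conj {u v : G} (h : Rt u v) (g : G) : Rt (g * u * g⁻¹) (g * v * g⁻¹) := by
  obtain ⟨y, rfl, e⟩ := h
  exact ⟨g * y * g⁻¹, conj_mul, by rw [conj_mul, conj_mul, e]⟩

theorem Rt.of_conj {u v g : G} (h : Rt (g * u * g⁻¹) (g * v * g⁻¹)) : Rt u v := by
  simpa [mul_assoc] using h.conj g⁻¹

/-- the frame -/
structure R1 (A S : Subgroup G) (t c w u : G) : Prop where
  qs : IsQuasisimple A
  gq : GQ (S ⊓ A) c w t
  uQ : u ∈ S ⊓ A
  uc : u ∉ zpowers c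
  syl : IsSylowIn 2 S 𝒞[t]
  nA : 𝒞[t] ≤ normalizer (A : Set G)
  nc : ∀ y ∈ S, y * c * y⁻¹ ∈ zpowers c
  tK : t ∈ centralizer (A : Set G)
  cyc : ∀ a ∈ S ⊓ centralizer (A : Set G), ∀ b ∈ S ⊓ centralizer (A : Set G), a * a = b * b → a = b ∨ a = t * b
  msq : ∀ h ∈ 𝒞[t], h * h ∈ A ⊔ centralizer (A : Set G)

namespace R1

variable {A S : Subgroup G} {t c w u : G} (h : R1 A S t c w u)
include h

theorem cz {y : G} (hy : y ∈ S) : y * t = t * y := mem_c.mp (h.syl.le hy)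

theorem two {y : G} (hy : y ∈ S) : IsPGroup 2 (zpowers y) := isPGroup_zpowers_of_mem h.syl.pgroup hy

theorem sylA : IsSylowIn 2 (S ⊓ A) A := by
  have := h.syl.inf_of_le_normalizer h.nA
  rwa [inf_eq_right.mpr (show A ≤ 𝒞[t] from fun a ha => mem_c.mpr (h.tK a ha))] at this

theorem nQ {y q : G} (hy : y ∈ S) (hq : q ∈ S ⊓ A) : y * q * y⁻¹ ∈ S ⊓ A :=
  mem_inf.2 ⟨mul_mem (mul_mem hy hq.1) (inv_mem hy), conj_mem_of_mem_normalizer (h.nA (h.syl.le hy)) hq.2⟩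

theorem nW {y d : G} (hy : y ∈ S) (hd : d ∈ zpowers c) : y * d * y⁻¹ ∈ zpowers d := by
  obtain ⟨k, hk⟩ := h.nc y hy
  rw [conj_zpow_of hk.symm hd]; exact zpow_mem_zpowers d k

theorem tS : t ∈ S := (h.gq.le h.gq.z_mem).1

theorem invK {y : G} (hy : y ∈ S) (hK : y ∈ centralizer (A : Set G)) (e : y * y = 1) : y = 1 ∨ y = t := by
  simpa using h.cyc y ⟨hy, hK⟩ 1 (one_mem _) (by simpa using e)

theorem cq {y : G} (hy : y ∈ S) (e1 : y * c = c * y) (e2 : y * u = u * y) : y ∈ centralizer (A : Set G) := by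
  have e : S ⊓ A ≤ 𝒞[y] := fun q hq => by
    have k : zpowers c ≤ 𝒞[y] := zpowers_le_of_mem (mem_c.mpr e1.symm)
    by_cases hc : q ∈ zpowers c
    · exact k hc
    · simpa using mul_mem (mem_c.mpr e2.symm) (k (h.gq.two u h.uQ q hq h.uc hc))
  by_contra hn
  obtain ⟨x, hx, x1, x2⟩ := exists_sq_mem _ rfl (h.two hy) hn
  have xS := zpowers_le_of_mem hy hx
  refine x1 (zstar_qs h.qs h.syl.pgroup (h.syl.le.trans h.nA) h.sylA xS fun a ha h1 => ?_)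
  have hq : a * x * a⁻¹ * x⁻¹ ∈ S ⊓ A := mem_inf.2 ⟨mul_mem h1 (inv_mem xS), cm_mem_left ha (h.nA (h.syl.le xS))⟩
  have h2 : Commute (a * x * a⁻¹ * x⁻¹) x := by
    obtain ⟨k, rfl⟩ := hx
    exact (show Commute _ y from mem_c.mp (e hq)).zpow_right k
  rcases h.gq.eq_z hq (by
    rw [← mul_left_inj (x * x), h2.mul_mul_mul_comm, inv_mul_cancel_right, conj_mul, x2 a ha]
    group) with e3 | e3 <;> rw [e3]
  exacts [one_mem _, h.tK]

theorem dec {y : G} (hy : y ∈ S) (hM : y ∈ A ⊔ centralizer (A : Set G)) :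
    ∃ q ∈ S ⊓ A, ∃ k ∈ S ⊓ centralizer (A : Set G), y = q * k := by
  obtain ⟨a, ha, k, hk, rfl⟩ := (Core.mem_sup_of_le_normalizer_left (centralizer_le_normalizer _)).mp hM
  obtain ⟨m, ⟨j, rfl⟩, h1⟩ := Class2.exists_odd_pow_two a
  obtain ⟨i, e⟩ := mem_zpowers_odd (h.two hy) j
  have hc : Commute a k := hk a ha
  have e1 : a * k = (a ^ (2 * j + 1)) ^ i * (k ^ (2 * j + 1)) ^ i := by
    rw [← (hc.pow_pow _ _).mul_zpow, ← hc.mul_pow]
    exact_mod_cast e.symm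
  have hk' := zpow_mem (pow_mem hk (2 * j + 1)) i
  have ha' := zpow_mem (pow_mem ha (2 * j + 1)) i
  have h2 := isPGroup_zpowers_of_mem h1 (zpow_mem_zpowers _ i)
  generalize (a ^ (2 * j + 1)) ^ i = q at *
  generalize (k ^ (2 * j + 1)) ^ i = l at *
  rw [e1] at hy ⊢
  have hq := h.sylA.le_of_normalizes h2 (zpowers_le_of_mem ha') (zpowers_le_of_mem
    (mem_normalizer_of_forall fun x hx => by
      have := h.nQ hy hx
      rwa [mul_assoc q, ← hk' x hx.2, show q * (x * l) * (q * l)⁻¹ = q * x * q⁻¹ by group] at this)) (mem_zpowers q)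
  exact ⟨q, hq, l, mem_inf.2 ⟨(mul_mem_cancel_left (mem_inf.1 hq).1).mp hy, hk'⟩, rfl⟩

theorem dec1 {s : G} (hs : s ∈ S) (hM : s ∈ A ⊔ centralizer (A : Set G)) (e : s * s = 1) (s1 : s ≠ 1) (st : s ≠ t) :
    ∃ q ∈ S ⊓ A, ∃ k ∈ S ⊓ centralizer (A : Set G), q * q = t ∧ k * k = t ∧ s = q * k := by
  obtain ⟨q, hq, k, hk, rfl⟩ := h.dec hs hM
  rw [(show Commute k q from (hk.2 q hq.2).symm).mul_mul_mul_comm] at e
  have h1 : q * q ∈ centralizer (A : Set G) := eq_inv_of_mul_eq_one_left e ▸ inv_mem (mul_mem hk.2 hk.2)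
  have h2 := (h.gq.central (mul_mem hq hq) h.uQ h.uc (h1 w (h.gq.le h.gq.w_mem).2).symm
    (h1 u h.uQ.2)).resolve_left fun e1 => by
      have h3 : q ∈ centralizer (A : Set G) := by
        rcases h.gq.eq_z hq e1 with e2 | e2 <;> rw [e2]
        exacts [one_mem _, h.tK]
      exact (h.invK hs (mul_mem h3 hk.2) (by
        rw [(show Commute k q from (hk.2 q hq.2).symm).mul_mul_mul_comm, e])).elim s1 st
  refine ⟨q, hq, k, hk, h2, ?_, rfl⟩
  rw [h2, ← h.gq.zz] at e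
  exact mul_left_cancel e

theorem conjM {g y : G} (hg : g ∈ 𝒞[t]) (hy : y ∈ A ⊔ centralizer (A : Set G)) :
    g * y * g⁻¹ ∈ A ⊔ centralizer (A : Set G) := by
  obtain ⟨a, ha, k, hk, rfl⟩ := (Core.mem_sup_of_le_normalizer_left (centralizer_le_normalizer _)).mp hy
  rw [← conj_mul]
  exact mul_mem_sup (conj_mem_of_mem_normalizer (h.nA hg) ha)
    (conj_mem_of_mem_normalizer (Core.normalizer_le_normalizer_centralizer _ (h.nA hg)) hk)

theorem rt_of_mem {s : G} (hc : s * t = t * s) (hM : s ∈ A ⊔ centralizer (A : Set G)) (e : s * s = 1) (s1 : s ≠ 1)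
    (st : s ≠ t) : Rt t s := by
  obtain ⟨g, hg, h1⟩ := h.syl.exists_conj_mem (mem_c.mpr hc) (isPGroup_zpowers_of_pow (k := 1) (by simpa [pow_two]))
  obtain ⟨q, hq, k, hk, e1, -, e2⟩ := h.dec1 h1 (h.conjM hg hM) (by rw [conj_mul, e]; group)
    (by simpa using s1) (conj_ne (mem_c.mp hg) st)
  refine Rt.of_conj (g := g) ⟨q, by rw [e1, conj_of_comm (mem_c.mp hg)], ?_⟩
  rw [e2, mul_assoc, ← hk.2 q hq.2]

theorem sq_of {v : G} (hv : IsConj t v) : v * v = 1 := by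
  obtain ⟨g, rfl⟩ := isConj_iff.mp hv
  rw [conj_mul, h.gq.zz, mul_one, mul_inv_cancel]

theorem ne_of {v : G} (hv : IsConj t v) : v ≠ 1 := fun e => h.gq.z1 (isConj_one_left.mp (e ▸ hv))

theorem symm {a b : G} (ha : IsConj t a) (hb : IsConj t b) (ne : a ≠ b) (e : Rt a b) : Rt b a := by
  obtain ⟨g, rfl⟩ := isConj_iff.mp hb
  obtain ⟨y, e1, e2⟩ := e.conj g⁻¹
  rw [show g⁻¹ * (g * t * g⁻¹) * g⁻¹⁻¹ = t by group] at e2
  have h1 := ha.trans (isConj_iff.mpr ⟨g⁻¹, rfl⟩)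
  simpa [mul_assoc] using (h.rt_of_mem (e1 ▸ mem_c.mp (mul_mem (mem_c.mpr e2) (mem_c.mpr e2)))
    (e1 ▸ h.msq y (mem_c.mpr e2)) (h.sq_of h1) (h.ne_of h1) fun e3 => ne (by rw [← e3]; group)).conj g

theorem mem_of_rt {s : G} (hs : IsConj t s) (st : s ≠ t) (e : Rt t s) : s ∈ A ⊔ centralizer (A : Set G) := by
  obtain ⟨y, e1, e2⟩ := h.symm (IsConj.refl t) hs st.symm e
  exact e1 ▸ h.msq y (mem_c.mpr e2)

theorem cm_mem {y : G} (hy : y ∈ S) : ⁅y, u⁆ ∈ zpowers c := by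
  have := h.gq.two _ (inv_mem (h.nQ hy h.uQ)) _ (inv_mem h.uQ) (fun e => h.uc (by
    simpa [mul_assoc] using zpowers_le_of_mem (inv_mem e) (h.nW (inv_mem hy) (inv_mem e))))
    fun e => h.uc (inv_mem_iff.mp e)
  rwa [inv_inv] at this

theorem ev_mul {a b : G} (ha : a ∈ S) (hb : b ∈ S) :
    ⁅a * b, u⁆ ∈ zpowers (c * c) ↔ (⁅a, u⁆ ∈ zpowers (c * c) ↔ ⁅b, u⁆ ∈ zpowers (c * c)) := by
  have h1 := zpowers_le_of_mem (h.cm_mem hb) (h.nW ha (h.cm_mem hb))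
  rw [cm_mul_left, mul_mem_iff_iff (mul_mem_sq h1 (h.cm_mem ha)), @Iff.comm _ (⁅a, u⁆ ∈ _)]
  refine iff_congr Iff.rfl ⟨fun e => ?_, fun e => zpowers_le_of_mem e (h.nW ha (h.cm_mem hb))⟩
  simpa [mul_assoc] using zpowers_le_of_mem e (h.nW (inv_mem ha) h1)

theorem w4 (j : ℤ) : w ^ (2 * (2 * j)) = 1 := by
  rw [zpow_mul, zpow_two, h.gq.ww, zpow_mul, zpow_two, h.gq.zz, one_zpow]

theorem exists_odd {y : G} (hy : y ∈ S) : ∃ j : ℤ, y * c * y⁻¹ = c ^ (2 * j + 1) := by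
  obtain ⟨k, hk⟩ := h.nc y hy
  obtain ⟨j, rfl | rfl⟩ := Int.even_or_odd' k
  · have h1 := conj_zpow_of hk.symm h.gq.w_mem
    have h2 : y * w * y⁻¹ * (y * w * y⁻¹) = y * (w * w) * y⁻¹ := conj_mul
    rw [h1, ← zpow_add, ← two_mul, h.w4, h.gq.ww, conj_of_comm (h.cz hy)] at h2
    exact absurd h2.symm h.gq.z1
  · exact ⟨j, hk.symm⟩

theorem rt_of_ev {y : G} (hy : y ∈ S) (e : ⁅y, u⁆ ∈ zpowers (c * c)) : Rt t y := by
  obtain ⟨j, hj⟩ := h.exists_odd hy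
  obtain ⟨i, rfl | rfl⟩ := Int.even_or_odd' j
  · refine ⟨w, h.gq.ww, (mul_inv_eq_iff_eq_mul.mp ?_).symm⟩
    rw [conj_zpow_of hj h.gq.w_mem, zpow_add_one, h.w4, one_mul]
  obtain ⟨d, hd, e1⟩ := mem_sq.mp e
  obtain ⟨l, rfl⟩ := zpowers_le_of_mem (mem_zpowers_odd (h.two (h.gq.c_mem).1) i) hd
  have h1 := zpow_mem_zpowers c (-l)
  refine ⟨c ^ (-l) * u, h.gq.sq _ (mul_mem (h.gq.le h1) h.uQ) fun e2 => h.uc ((mul_mem_cancel_left h1).mp e2),
    (mul_inv_eq_iff_eq_mul.mp ?_).symm⟩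
  rw [← conj_mul, conj_zpow_of hj h1, conj_eq_cm, ← e1]
  simp only [← zpow_mul, ← mul_assoc, ← zpow_add]
  congr 2; ring

theorem inner {y : G} (hy : y ∈ S) (e : ⁅y, u⁆ ∈ zpowers (c * c)) (e1 : y * c * y⁻¹ = c ∨ y * c * y⁻¹ = c⁻¹) :
    y ∈ A ⊔ centralizer (A : Set G) := by
  obtain ⟨d, hd, e2⟩ := mem_sq.mp e
  have dQ := h.gq.le hd
  have h1 : d⁻¹ * y * u = u * (d⁻¹ * y) := by
    have := h.gq.conj_out h.uQ h.uc hd
    rw [e2, ← conj_eq_cm] at this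
    calc _ = d⁻¹ * (y * u * y⁻¹) * y := by group
      _ = _ := by rw [← this]; group
  have h2 := zp_comm (inv_mem hd) (mem_zpowers c)
  have hy' := mul_mem (inv_mem (mem_inf.1 dQ).1) hy
  rcases e1 with e1 | e1
  · simpa using mul_mem_sup dQ.2 (h.cq hy' (by
      calc _ = d⁻¹ * (y * c * y⁻¹) * y := by group
        _ = _ := by rw [e1, h2, mul_assoc]) h1)
  · simpa [mul_assoc] using mul_mem_sup (mul_mem dQ.2 (inv_mem h.uQ.2)) (h.cq (mul_mem h.uQ.1 hy') (by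
      calc _ = u * (d⁻¹ * (y * c * y⁻¹) * d) * u⁻¹ * (u * (d⁻¹ * y)) := by group
        _ = _ := by
          rw [e1, zp_comm (inv_mem hd) (inv_mem (mem_zpowers c)), inv_mul_cancel_right,
            h.gq.inv u h.uQ h.uc _ (inv_mem (mem_zpowers c)), inv_inv]) (by rw [mul_assoc, h1]))

theorem inv_of_not_ev {y : G} (hy : y ∈ S) (yy : y * y = 1) (e : ⁅y, u⁆ ∉ zpowers (c * c)) : y * c * y⁻¹ = c⁻¹ := by
  obtain ⟨k, e1⟩ := mem_zpowers_sq (h.cm_mem hy) e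
  have h1 : y * ⁅y, u⁆ * y⁻¹ = ⁅y, u⁆ ^ (-1 : ℤ) := by
    rw [zpow_neg_one, eq_inv_iff_mul_eq_one, ← cm_mul_left, yy, commutatorElement_one_left]
  simpa using conj_zpow_of h1 (e1 ▸ mem_zpowers_odd (h.two h.gq.c_mem.1) k)

theorem four {y : G} (hy : y ∈ S) : ∃ v, (v = 1 ∨ v = t) ∧ (y * c * y⁻¹ = v * c ∨ y * c * y⁻¹ = v * c⁻¹) := by
  obtain ⟨j, hj⟩ := h.exists_odd hy
  have h1 : ∀ d ∈ zpowers c, y * y * d * (y * y)⁻¹ = d ^ (2 * (2 * (j * (j + 1))) + 1) := fun d hd => by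
    rw [show y * y * d * (y * y)⁻¹ = y * (y * d * y⁻¹) * y⁻¹ by group, conj_zpow_of hj hd, ← conj_zpow,
      conj_zpow_of hj hd, ← zpow_mul]
    congr 1; ring
  have h2 : c ^ (2 * (2 * (j * (j + 1)))) = 1 := by
    obtain ⟨q, hq, k, hk, e⟩ := h.dec (mul_mem hy hy) (h.msq y (h.syl.le hy))
    have h3 : ∀ d ∈ zpowers c, q * d * q⁻¹ = d ^ (2 * (2 * (j * (j + 1)))) * d := fun d hd => by
      rw [← zpow_add_one, ← h1 d hd, e, mul_assoc q k, ← hk.2 d (h.gq.le hd).2]; group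
    by_cases hc : q ∈ zpowers c
    · have := h3 c (mem_zpowers c)
      rwa [conj_of_comm (zp_comm hc (mem_zpowers c)), eq_comm, mul_eq_right] at this
    · have := h3 w h.gq.w_mem
      rw [h.w4, one_mul, mul_inv_eq_iff_eq_mul] at this
      exact absurd this (h.gq.not_comm hq hc)
  have k : ∀ a i : ℤ, j * (j + 1) = a * (2 * i + 1) → c ^ (2 * a) = 1 ∨ c ^ (2 * a) = t := fun a i e => by
    have h3 := zpow_mem_zpowers c (2 * a)
    refine h.gq.invol _ h3 ?_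
    have := mem_zpowers_odd (h.two (h.gq.le (mul_mem h3 h3)).1) i
    rwa [← zpow_add, ← zpow_mul, show (2 * a + 2 * a) * (2 * i + 1) = 2 * (2 * (j * (j + 1))) by rw [e]; ring, h2,
      zpowers_one_eq_bot, mem_bot, zpow_add] at this
  obtain ⟨i, e | e⟩ := Int.even_or_odd' j
  · exact ⟨_, k j i (by rw [e]), Or.inl (by rw [hj, zpow_add_one])⟩
  · exact ⟨_, k (j + 1) i (by rw [mul_comm, e]), Or.inr (by rw [hj, ← zpow_sub_one]; congr 1; ring)⟩

theorem mem_X {y : G} : y ∈ normalizer ({c, c⁻¹} : Set G) ↔ y * c * y⁻¹ = c ∨ y * c * y⁻¹ = c⁻¹ := by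
  refine ⟨fun e => (e c).1 (Or.inl rfl), fun e => mem_normalizer_fintype ?_⟩
  rintro _ (rfl | rfl)
  · exact e
  · rw [← conj_inv]
    exact e.symm.imp (fun e => by rw [e, inv_inv]) fun e => by rw [e]; rfl

theorem x_mul {a b : G} (ha : a ∈ S) (hb : b ∈ S) : a * b ∈ normalizer ({c, c⁻¹} : Set G) ↔
    (a ∈ normalizer ({c, c⁻¹} : Set G) ↔ b ∈ normalizer ({c, c⁻¹} : Set G)) := by
  refine mul_mem_iff_iff fun h1 h2 => ?_
  rw [h.mem_X] at h1 h2 ⊢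
  obtain ⟨v, rfl | rfl, e1⟩ := h.four ha
  · exact absurd (by simpa only [one_mul] using e1) h1
  obtain ⟨v, rfl | rfl, e2⟩ := h.four hb
  · exact absurd (by simpa only [one_mul] using e2) h2
  have h3 : Commute v c := (h.cz h.gq.c_mem.1).symm
  have h4 : v⁻¹ = v := inv_eq_of_mul_eq_one_right h.gq.zz
  rw [show a * b * c * (a * b)⁻¹ = a * (b * c * b⁻¹) * a⁻¹ by group]
  rcases e2 with e2 | e2 <;> rw [e2, ← conj_mul, conj_of_comm (h.cz ha)]
  · rcases e1 with e1 | e1 <;> rw [e1, ← mul_assoc, h.gq.zz, one_mul] <;> simp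
  · rw [← conj_inv]
    rcases e1 with e1 | e1 <;> rw [e1, mul_inv_rev, h4]
    · rw [← h3.inv_right.eq, ← mul_assoc, h.gq.zz, one_mul]; simp
    · rw [inv_inv, ← h3.eq, ← mul_assoc, h.gq.zz, one_mul]; simp

theorem sylG : IsSylowIn 2 S ⊤ := isSylowIn_of_isSylowIn_normalizer le_top
  (h.syl.of_le (le_inf le_top le_normalizer) fun g hg => mem_c.mpr (by
    have k : ∀ y ∈ S, g * t * g⁻¹ * y = y * (g * t * g⁻¹) := fun y hy => by
      calc _ = g * (t * (g⁻¹ * y * g)) * g⁻¹ := by group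
        _ = _ := by rw [← h.cz (conj_mem_of_mem_normalizer' hg.2 hy)]; group
    have h1 := conj_mem_of_mem_normalizer hg.2 h.tS
    have h2 : IsConj t (g * t * g⁻¹) := isConj_iff.mpr ⟨g, rfl⟩
    exact mul_inv_eq_iff_eq_mul.mp ((h.invK h1 (h.cq h1 (k c h.gq.c_mem.1) (k u h.uQ.1)) (h.sq_of h2)).resolve_left
      (h.ne_of h2))))

/-- every involution is conjugate into `A C(A)` -/
theorem exists_conj (h2 : ∀ M : Subgroup G, M.index ≠ 2) {v : G} (hv : orderOf v = 2) :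
    ∃ g, g * v * g⁻¹ ∈ S ∧ g * v * g⁻¹ ∈ A ⊔ centralizer (A : Set G) := by
  obtain ⟨g, h1, h3⟩ := thompson_pred h.sylG h2
    (f := fun y => ⁅y, u⁆ ∈ zpowers (c * c) ↔ y ∈ normalizer ({c, c⁻¹} : Set G))
    (fun a ha b hb => by rw [h.ev_mul ha hb, h.x_mul ha hb]; grind) hv
  have h4 : ⁅g * v * g⁻¹, u⁆ ∈ zpowers (c * c) := by_contra fun e => e (h3.2 (h.mem_X.2 (Or.inr
    (h.inv_of_not_ev h1 (by rw [conj_mul, ← pow_two, ← hv, pow_orderOf_eq_one]; group) e))))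
  exact ⟨g, h1, h.inner h1 h4 (h.mem_X.1 (h3.1 h4))⟩

end R1

end CfsgLib.StdExc
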