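import Mathlib
import Cfsg.Prelude.Def_Local
import Cfsg.Prelude.Def_CaseTheorems
import Cfsg.Agent.Lib.Tech.SylowIn
import Cfsg.Agent.Lib.Comp.Quasisimple

/-!
# A standard subgroup whose centraliser has a cyclic Sylow 2-subgroup: the exceptional configuration

`t` is the involution of the centraliser of `A`; every other conjugate of `t` commuting with `t` inverts the
elements of order four of that centraliser.  `P` is the subgroup of index two of `C(t)` fixing them up to conjugacy.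
-/

set_option autoImplicit false

namespace CfsgLib.StdExc

open Subgroup Cfsg CfsgLib.Tech

variable {G : Type*} [Group G]

/-- the exceptional configuration -/
structure Exc (A P : Subgroup G) (t : G) : Prop where
  ne : t ≠ 1
  sq : t * t = 1
  qs : IsQuasisimple A
  nA : ∀ h, Commute h t → h ∈ normalizer (A : Set G)
  le : ∀ h ∈ P, Commute h t
  AP : A ≤ P
  tP : t ∈ P
  idx : ∀ a b, Commute a t → Commute b t → a ∉ P → b ∉ P → a * b ∈ P
  out : ∀ s, IsConj t s → Commute s t → s ≠ t → s ∉ P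
  root : ∀ X : Subgroup G, IsPGroup 2 X → (∀ x ∈ X, Commute x t) →
    ∃ r, r * r = t ∧ ∀ x ∈ X, (x ∈ P → Commute x r) ∧ (x ∉ P → x * r * x⁻¹ = r⁻¹)
  cen : ∀ u, u * u = 1 → Commute u t → u ∈ centralizer (A : Set G) → u = 1 ∨ u = t

/-- the semidihedral frame `⟨σ, s⟩` inside a Sylow 2-subgroup `S` of `C(t)` -/
structure Fr (A P : Subgroup G) (t : G) (S : Subgroup G) (s σ : G) (m : ℕ) : Prop where
  syl : IsSylowIn 2 S (centralizer {t})
  two : 2 ≤ m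
  sS : s ∈ S
  σS : σ ∈ S
  cj : IsConj t s
  ne : s ≠ t
  ord : orderOf σ = 2 ^ (m + 1)
  pow : σ ^ 2 ^ m = t
  inv : s * σ * s⁻¹ = σ⁻¹ * t
  qA : s * σ ∈ A
  yA : σ ^ 2 ∈ A
  gam : ∀ x ∈ S, IsConj t x → x = t ∨ ∃ j : ℤ, x = s * σ ^ (2 * j)
  four : ∀ h, Commute h t → h * σ ^ 2 ^ (m - 1) * h⁻¹ ∈ S →
    h * σ ^ 2 ^ (m - 1) * h⁻¹ ∈ zpowers (σ ^ 2) ∨ ∃ j : ℤ, h * σ ^ 2 ^ (m - 1) * h⁻¹ = s * σ ^ (2 * j + 1)
  fourc : ∀ j : ℤ, ∃ h, Commute h t ∧ s * σ ^ (2 * j + 1) = h * σ ^ 2 ^ (m - 1) * h⁻¹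
  big : ∀ y ∈ zpowers (σ ^ 2), y ^ 4 ≠ 1 → ∀ h, Commute h t → h * y * h⁻¹ ∈ S → h * y * h⁻¹ ∈ zpowers (σ ^ 2)
  fix : ∀ u ∈ S, u ∈ P → Commute u s → Commute u (σ ^ 2 ^ (m - 1))

theorem comm_conj {g a b : G} : Commute a (g * b * g⁻¹) ↔ Commute (g⁻¹ * a * g) b := by
  refine ⟨fun h => ?_, fun h => ?_⟩
  · simpa [mul_assoc] using h.map (MulAut.conj g⁻¹)
  · simpa [mul_assoc] using h.map (MulAut.conj g)

variable {A P : Subgroup G} {t : G}

/-- `P` is normal in `C(t)` -/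
theorem Exc.conj_mem (e : Exc A P t) {h x : G} (hh : Commute h t) (hx : x ∈ P) : h * x * h⁻¹ ∈ P := by
  by_cases h1 : h ∈ P
  · exact mul_mem (mul_mem h1 hx) (inv_mem h1)
  · exact e.idx _ _ (hh.mul_left (e.le x hx)) hh.inv_left (fun h2 => h1 ((mul_mem_cancel_right hx).1 h2))
      fun h2 => h1 (inv_mem_iff.1 h2)

theorem Exc.sq_mem (e : Exc A P t) {x : G} (hx : Commute x t) : x * x ∈ P := by
  by_cases h1 : x ∈ P
  exacts [mul_mem h1 h1, e.idx _ _ hx hx h1 h1]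

theorem Exc.conj (e : Exc A P t) (g : G) : Exc (Tech.cj g A) (Tech.cj g P) (g * t * g⁻¹) where
  ne h := e.ne (by simpa [mul_inv_eq_iff_eq_mul] using h)
  sq := by rw [conj_mul, e.sq, mul_one, mul_inv_cancel]
  qs := Comp.qs_of_mulEquiv e.qs (cjEquiv g A)
  nA h hh := by rw [← cj_normalizer, mem_cj]; exact e.nA _ (comm_conj.1 hh)
  le h hh := comm_conj.2 (e.le _ (mem_cj.1 hh))
  AP := cj_mono g e.AP
  tP := conj_mem_cj.2 e.tP
  idx a b ha hb h1 h2 := mem_cj.2 (by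
    simpa [mul_assoc] using e.idx _ _ (comm_conj.1 ha) (comm_conj.1 hb) (mt mem_cj.2 h1) (mt mem_cj.2 h2))
  out s h1 h2 h3 h4 := e.out _ ((isConj_iff.2 ⟨g, rfl⟩).trans (h1.trans (isConj_iff.2 ⟨g⁻¹, by rw [inv_inv]⟩)))
    (comm_conj.1 h2) (fun h => h3 (by rw [← h]; group)) (mem_cj.1 h4)
  root X h1 h2 := by
    obtain ⟨r, r1, r2⟩ := e.root (Tech.cj g⁻¹ X) (isPGroup_cj _ h1) fun x hx => by
      simpa [mul_assoc] using comm_conj.1 (h2 _ (mem_cj.1 hx))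
    refine ⟨g * r * g⁻¹, by rw [conj_mul, r1], fun x hx => ?_⟩
    have := r2 (g⁻¹ * x * g) (mem_cj.2 (by simpa [mul_assoc] using hx))
    refine ⟨fun h => comm_conj.2 (this.1 (mem_cj.1 h)), fun h => ?_⟩
    calc _ = g * (g⁻¹ * x * g * r * (g⁻¹ * x * g)⁻¹) * g⁻¹ := by group
      _ = _ := by rw [this.2 (mt mem_cj.2 h)]; group
  cen u h1 h2 h3 := by
    rw [← cj_centralizer, mem_cj] at h3
    refine (e.cen _ (by rw [show g⁻¹ * u * g * (g⁻¹ * u * g) = g⁻¹ * (u * u) * g by group, h1]; group)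
      (comm_conj.1 h2) h3).imp (fun h => ?_) fun h => by rw [← h]; group
    simpa [mul_assoc, inv_mul_eq_iff_eq_mul] using h

end CfsgLib.StdExc
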