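import Mathlib
import Cfsg.Prelude.Def_TwoFusion
import Cfsg.Agent.Lib.StdExc.Defs
import Cfsg.Agent.Lib.TwoGrp.Pres

/-!
# The exceptional configuration: the frame `⟨σ, s⟩` is strongly closed in a Sylow 2-subgroup
-/

set_option autoImplicit false
set_option linter.unusedSectionVars false

namespace CfsgLib.StdExc

open Subgroup Cfsg CfsgLib.Tech CfsgLib.TwoGrp

variable {G : Type*} [Group G] {A P : Subgroup G} {t : G} {S : Subgroup G} {s σ : G} {m : ℕ}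

/-- the semidihedral group `⟨σ, s⟩` -/
abbrev Sg (s σ : G) : Subgroup G := zpowers σ ⊔ zpowers s

theorem Exc.t_not_mem (e : Exc A P t) {g : G} (h : Commute (g * t * g⁻¹) t) (hn : g * t * g⁻¹ ≠ t) :
    t ∉ Tech.cj g P :=
  (e.conj g).out t (isConj_iff.2 ⟨g, rfl⟩).symm h.symm hn.symm

/-- an element commuting with `t` and another conjugate of `t` is not a square root of `t` -/
theorem Exc.sq_ne_t (e : Exc A P t) {s x : G} (h1 : IsConj t s) (h2 : Commute s t) (h3 : s ≠ t)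
    (hx : Commute x s) : x * x ≠ t := by
  obtain ⟨g, rfl⟩ := isConj_iff.1 h1
  exact fun h => e.t_not_mem h2 h3 (h ▸ (e.conj g).sq_mem hx)

namespace Fr

variable (f : Fr A P t S s σ m)
include f

theorem cS {x : G} (hx : x ∈ S) : Commute x t := mem_centralizer_singleton_iff.1 (f.syl.le hx)

theorem zc : σ ^ 2 ^ (m - 1) = σ ^ (2 * (2 : ℤ) ^ (m - 2)) := by
  obtain ⟨k, rfl⟩ := Nat.exists_eq_add_of_le' f.two
  rw [← zpow_natCast]; congr 1; simp [pow_succ, mul_comm]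

theorem zt : t = σ ^ (4 * (2 : ℤ) ^ (m - 2)) := by
  obtain ⟨k, rfl⟩ := Nat.exists_eq_add_of_le' f.two
  rw [← f.pow, ← zpow_natCast]; congr 1; simp [pow_succ]; ring

theorem zeq {i j : ℤ} : σ ^ i = σ ^ j ↔ 8 * (2 : ℤ) ^ (m - 2) ∣ i - j := by
  obtain ⟨k, rfl⟩ := Nat.exists_eq_add_of_le' f.two
  rw [zpow_eq_zpow_iff_dvd, f.ord]
  have : ((2 ^ (k + 2 + 1) : ℕ) : ℤ) = 8 * 2 ^ (k + 2 - 2) := by simp [pow_succ]; ring
  rw [this]

theorem tz : t ∈ zpowers σ := ⟨_, f.zt.symm⟩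

theorem tS : t ∈ S := zpowers_le.2 f.σS f.tz

theorem cc : σ ^ 2 ^ (m - 1) * σ ^ 2 ^ (m - 1) = t := by
  rw [f.zc, ← zpow_add]; conv_rhs => rw [f.zt]
  congr 1; ring

theorem cy : σ ^ 2 ^ (m - 1) ∈ zpowers (σ ^ 2) :=
  ⟨2 ^ (m - 2), by rw [f.zc]; simp only [← zpow_natCast σ 2, ← zpow_mul]; rfl⟩

theorem σ4 : σ ^ (4 : ℤ) ≠ 1 := by
  rw [← zpow_zero σ, Ne, f.zeq]
  intro h
  have := Int.le_of_dvd (by norm_num) h
  have : (0 : ℤ) < 2 ^ (m - 2) := by positivity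
  omega

variable (e : Exc A P t)
include e

theorem ss : s * s = 1 := by
  obtain ⟨g, rfl⟩ := isConj_iff.1 f.cj
  rw [conj_mul, e.sq]; group

theorem si : s⁻¹ = s := inv_eq_of_mul_eq_one_right (f.ss e)

theorem sP : s ∉ P := e.out s f.cj (f.cS f.sS) f.ne

theorem σP : σ ∉ P := fun h => f.sP e ((mul_mem_cancel_right h).1 (e.AP f.qA))

theorem evP (k : ℤ) : σ ^ (2 * k) ∈ P := by
  rw [zpow_mul]; exact zpow_mem (by simpa using e.AP f.yA) k

theorem odP (k : ℤ) : σ ^ (2 * k + 1) ∉ P := fun h =>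
  f.σP e ((mul_mem_cancel_left (f.evP e k)).1 (by rwa [← zpow_add_one]))

theorem se (k : ℤ) : s * σ ^ (2 * k) * s⁻¹ = (σ ^ (2 * k))⁻¹ := by
  rw [← conj_zpow, f.inv, (f.cS f.σS).inv_left.mul_zpow, zpow_mul t, zpow_two, e.sq, one_zpow, mul_one, inv_zpow]

theorem so (k : ℤ) : s * σ ^ (2 * k + 1) * s⁻¹ = (σ ^ (2 * k + 1))⁻¹ * t := by
  rw [← conj_zpow, f.inv, (f.cS f.σS).inv_left.mul_zpow, zpow_add_one t, zpow_mul t, zpow_two, e.sq, one_zpow,
    one_mul, inv_zpow]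

theorem inv1 {x : G} (hx : x ∈ zpowers σ) (h : x * x = 1) : x = 1 ∨ x = t := by
  obtain ⟨j, rfl⟩ := hx
  obtain ⟨i, hi⟩ := f.zeq.1 (show σ ^ (j + j) = σ ^ (0 : ℤ) by rw [zpow_add, zpow_zero]; exact h)
  have : σ ^ j = t ^ i := by
    conv_rhs => rw [f.zt, ← zpow_mul]
    congr 1; linarith
  simp only [this]
  rcases Int.even_or_odd' i with ⟨k, rfl | rfl⟩
  · left; rw [zpow_mul, zpow_two, e.sq, one_zpow]
  · right; rw [zpow_add_one, zpow_mul, zpow_two, e.sq, one_zpow, one_mul]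

theorem cs {x : G} (hx : x ∈ zpowers σ) (h : Commute x s) : x = 1 ∨ x = t := by
  have h' : s * x * s⁻¹ = x := by rw [← h.eq, mul_inv_cancel_right]
  obtain ⟨j, rfl⟩ := hx
  rcases Int.even_or_odd' j with ⟨k, rfl | rfl⟩
  · exact f.inv1 e ⟨_, rfl⟩ (by simp only [f.se e] at h'; exact mul_eq_one_iff_eq_inv.2 h'.symm)
  · simp only [f.so e] at h'
    rw [inv_mul_eq_iff_eq_mul, ← zpow_add] at h'
    obtain ⟨i, hi⟩ := f.zeq.1 (f.zt.symm.trans h')
    rw [mul_assoc] at hi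
    omega

theorem rt {a : G} (ha : a ∈ zpowers σ) (h : a * a = t) : a = σ ^ 2 ^ (m - 1) ∨ a = σ ^ 2 ^ (m - 1) * t := by
  have hc : Commute (σ ^ 2 ^ (m - 1)) a := by
    obtain ⟨k, rfl⟩ := ha
    exact ((Commute.refl σ).pow_left _).zpow_right _
  have := f.inv1 e (mul_mem (inv_mem (pow_mem (mem_zpowers σ) (2 ^ (m - 1)))) ha) (by
    rw [← pow_two, hc.inv_left.mul_pow, inv_pow, pow_two, pow_two, f.cc, h, inv_mul_cancel])
  simpa only [inv_mul_eq_iff_eq_mul, mul_one] using this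

theorem ncs : ¬ Commute (σ ^ 2 ^ (m - 1)) s := fun h => by
  rcases f.cs e ⟨_, (f.zc).symm⟩ h with h | h <;> have := f.cc <;> rw [h] at this
  · exact e.ne (by simpa using this.symm)
  · exact e.ne (e.sq.symm.trans this).symm

theorem nys : ¬ Commute (σ ^ 2) s := fun h => f.ncs e (by
  obtain ⟨k, hk⟩ := f.cy
  rw [← hk]; exact h.zpow_left k)

theorem sz : s ∉ zpowers σ := by
  rintro ⟨k, hk⟩
  exact f.nys e (hk ▸ ((Commute.refl σ).pow_left 2).zpow_right k)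

/-- `⟨σ⟩` is transitive on the involutions `s σ^(2j)` -/
theorem tr (j : ℤ) : ∃ l : ℤ, σ ^ l * s * (σ ^ l)⁻¹ = s * σ ^ (2 * j) := by
  have h (x : G) : x * s * x⁻¹ = s * (s * x * s⁻¹ * x⁻¹) := by
    rw [f.si e]; simp only [← mul_assoc, f.ss e, one_mul]
  rcases Int.even_or_odd' j with ⟨i, rfl | rfl⟩
  · exact ⟨2 * -i, by rw [h, f.se e, ← zpow_neg, ← zpow_add]; congr 2; ring⟩
  · refine ⟨2 * (2 ^ (m - 2) - i - 1) + 1, ?_⟩
    rw [h, f.so e]; conv_lhs => rw [f.zt]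
    simp only [← zpow_neg, ← zpow_add]; congr 2; ring

theorem cjs (j : ℤ) : IsConj t (s * σ ^ (2 * j)) := by
  obtain ⟨l, hl⟩ := f.tr e j
  exact f.cj.trans (isConj_iff.2 ⟨_, hl⟩)

theorem gam' {x y : G} (hx : Commute x t) (h1 : IsConj t y) (h2 : y ≠ t) (h3 : x * y * x⁻¹ ∈ S) :
    ∃ j : ℤ, x * y * x⁻¹ = s * σ ^ (2 * j) := by
  refine (f.gam _ h3 (h1.trans (isConj_iff.2 ⟨x, rfl⟩))).resolve_left fun h => h2 ?_
  rw [mul_inv_eq_iff_eq_mul, ← hx.eq] at h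
  exact mul_left_cancel h

theorem sne (j : ℤ) : s * σ ^ j ≠ t := fun h =>
  f.sz e ((mul_mem_cancel_right (zpow_mem (mem_zpowers σ) j)).1 (h ▸ f.tz))

theorem fourq {h : G} (hh : Commute h t) (k : ℤ) (hS : h * (s * σ ^ (2 * k + 1)) * h⁻¹ ∈ S) :
    h * (s * σ ^ (2 * k + 1)) * h⁻¹ ∈ zpowers (σ ^ 2) ∨
      ∃ j : ℤ, h * (s * σ ^ (2 * k + 1)) * h⁻¹ = s * σ ^ (2 * j + 1) := by
  obtain ⟨a, ha, h1⟩ := f.fourc k
  have : h * (s * σ ^ (2 * k + 1)) * h⁻¹ = h * a * σ ^ 2 ^ (m - 1) * (h * a)⁻¹ := by rw [h1]; group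
  rw [this] at hS ⊢
  exact f.four _ (hh.mul_left ha) hS

variable [Finite G]

theorem nrm {x : G} (hx : x ∈ S) : x ∈ normalizer (zpowers σ : Set G) := by
  have hS (j : ℤ) : x * (s * σ ^ j) * x⁻¹ ∈ S :=
    mul_mem (mul_mem hx (mul_mem f.sS (zpow_mem f.σS j))) (inv_mem hx)
  obtain ⟨a, ha⟩ := f.gam' e (f.cS hx) f.cj f.ne (by simpa using hS 0)
  obtain ⟨b, hb⟩ := f.gam' e (f.cS hx) (f.cjs e 1) (f.sne e _) (hS _)
  have key (y : G) : x * y * x⁻¹ = (x * s * x⁻¹)⁻¹ * (x * (s * y) * x⁻¹) := by group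
  have hy : x ∈ normalizer (zpowers (σ ^ 2) : Set G) := mem_normalizer_zpowers ⟨b - a, by
    have := key (σ ^ (2 * 1 : ℤ))
    rw [ha, hb, mul_one, zpow_ofNat] at this
    rw [this]; simp only [← zpow_natCast σ 2, ← zpow_mul]
    group⟩
  refine mem_normalizer_zpowers ?_
  rcases f.fourq e (f.cS hx) 0 (hS _) with h | ⟨j, h⟩
  · obtain ⟨k, hk⟩ := (mem_normalizer_iff.1 hy _).2 h
    refine absurd ((mul_mem_cancel_right (zpow_mem (mem_zpowers σ) (2 * 0 + 1))).1 ?_) (f.sz e)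
    rw [← hk]; exact zpow_mem (pow_mem (mem_zpowers σ) 2) k
  · have := key (σ ^ (2 * 0 + 1 : ℤ))
    rw [ha, h, mul_zero, zero_add, zpow_one] at this
    exact ⟨2 * j + 1 - 2 * a, by simp only [this]; group⟩

theorem nz {x y : G} (hx : x ∈ S) (hy : y ∈ zpowers σ) : x * y * x⁻¹ ∈ zpowers σ :=
  (mem_normalizer_iff.1 (f.nrm e hx) y).1 hy

theorem mem_Sg {x : G} (hx : x ∈ Sg s σ) : ∃ j : ℤ, x = σ ^ j ∨ x = s * σ ^ j := by
  rcases (mem_sup_zpowers_iff (f.nrm e f.sS) (by rw [f.ss e]; exact one_mem _)).1 hx with ⟨j, h⟩ | ⟨c, hc, rfl⟩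
  · exact ⟨j, .inl h.symm⟩
  · obtain ⟨j, h⟩ := f.nz e (inv_mem f.sS) hc
    exact ⟨j, .inr (by simp only [h]; group)⟩

omit f e [Finite G] in
theorem z_mem (j : ℤ) : σ ^ j ∈ Sg s σ := mem_sup_left (zpow_mem (mem_zpowers σ) j)

omit f e [Finite G] in
theorem sz_mem (j : ℤ) : s * σ ^ j ∈ Sg s σ := mul_mem (mem_sup_right (mem_zpowers s)) (z_mem j)

omit e [Finite G] in
theorem Sg_le : Sg s σ ≤ S := sup_le (zpowers_le.2 f.σS) (zpowers_le.2 f.sS)

omit e [Finite G] in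
theorem T_mem {x : G} (hx : x ∈ S) (h : IsConj t x) : x ∈ Sg s σ := by
  rcases f.gam x hx h with rfl | ⟨j, rfl⟩
  exacts [mem_sup_left f.tz, sz_mem _]

/-- `S` is a Sylow 2-subgroup of `G` -/
theorem sylTop : IsSylowIn 2 S ⊤ := by
  refine isSylowIn_of_isSylowIn_normalizer le_top (f.syl.of_le (le_inf le_top le_normalizer) fun x hx => ?_)
  have hn := mem_normalizer_iff.1 hx.2
  rcases f.gam _ ((hn t).1 f.tS) (isConj_iff.2 ⟨x, rfl⟩) with h | ⟨j, h⟩
  · exact mem_centralizer_singleton_iff.2 (mul_inv_eq_iff_eq_mul.1 h)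
  · have h1 : x⁻¹ * σ ^ 2 * x ∈ S := (hn _).2 (by simpa [mul_assoc] using pow_mem f.σS 2)
    have h2 : Commute (σ ^ 2) (s * σ ^ (2 * j)) := h ▸ comm_conj.2 (f.cS h1)
    exact absurd (by simpa using h2.mul_right (((Commute.refl σ).pow_left 2).zpow_right (2 * j)).inv_right) (f.nys e)

/-- an element of `S` moves `s` as a power of `σ` does -/
theorem dec {x : G} (hx : x ∈ S) : ∃ l : ℤ, Commute ((σ ^ l)⁻¹ * x) s := by
  obtain ⟨j, hj⟩ := f.gam' e (f.cS hx) f.cj f.ne (mul_mem (mul_mem hx f.sS) (inv_mem hx))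
  obtain ⟨l, hl⟩ := f.tr e j
  refine ⟨l, ?_⟩
  calc (σ ^ l)⁻¹ * x * s = (σ ^ l)⁻¹ * (x * s * x⁻¹) * x := by group
    _ = _ := by rw [hj, ← hl]; group

/-- an element of `S` commuting with `s` and `c` lies in `P` -/
theorem memP {u : G} (hu : u ∈ S) (h1 : Commute u s) (h2 : Commute u (σ ^ 2 ^ (m - 1))) : u ∈ P := by
  by_contra h
  have := f.fix _ (mul_mem hu f.sS) (e.idx _ _ (f.cS hu) (f.cS f.sS) h (f.sP e)) (h1.mul_left (Commute.refl s))
  exact f.ncs e (by simpa using (h2.inv_left.mul_left this).symm)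

/-- an element of `S` fixing the square of `x ∈ ⟨σ⟩` sends `x` to `x` or `x t` -/
theorem fix_sq {u x : G} (hu : u ∈ S) (hx : x ∈ zpowers σ) (h : Commute u (x * x)) :
    u * x * u⁻¹ = x ∨ u * x * u⁻¹ = x * t := by
  have h1 := f.nz e hu hx
  have h2 : Commute x (u * x * u⁻¹) := by
    obtain ⟨i, hi⟩ := hx
    obtain ⟨j, hj⟩ := h1
    rw [← hj, ← hi]; exact Commute.zpow_zpow_self σ i j
  have := f.inv1 e (mul_mem (inv_mem hx) h1) (by
    rw [← pow_two, h2.inv_left.mul_pow, pow_two, pow_two, conj_mul, h.eq]; group)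
  simpa only [inv_mul_eq_iff_eq_mul, mul_one] using this

/-- a conjugate of `σ` in `S` lies in the frame -/
theorem closed_σ {g : G} (hg : Commute g t) (hx : g * σ * g⁻¹ ∈ S) : g * σ * g⁻¹ ∈ Sg s σ := by
  obtain ⟨x, hxd⟩ : ∃ x, x = g * σ * g⁻¹ := ⟨_, rfl⟩
  rw [← hxd] at hx ⊢
  have x2 : g * σ ^ 2 * g⁻¹ = x * x := by rw [pow_two, hxd, conj_mul]
  have hσ := mem_zpowers σ
  have hc : σ ^ 2 ^ (m - 1) ∈ zpowers σ := pow_mem hσ _
  have xP : x ∉ P := fun h => f.σP e (by simpa [hxd, mul_assoc] using e.conj_mem hg.inv_left h)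
  have h2 : x * x ∈ zpowers (σ ^ 2) := by
    rw [← x2]
    by_cases h8 : (σ ^ 2) ^ 4 = 1
    swap
    · exact f.big _ (mem_zpowers _) h8 g hg (x2 ▸ mul_mem hx hx)
    have hm : m = 2 := by
      have := orderOf_dvd_of_pow_eq_one (show σ ^ 2 ^ 3 = 1 by rw [← h8, ← pow_mul]; rfl)
      rw [f.ord, Nat.pow_dvd_pow_iff_le_right (by norm_num)] at this
      have := f.two
      omega
    subst hm
    refine (f.four g hg (x2 ▸ mul_mem hx hx)).resolve_right fun ⟨j, hj⟩ => f.ncs e ?_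
    replace hj : x * x = s * σ ^ (2 * j + 1) := x2 ▸ hj
    have : Commute (x * x) (σ ^ 2 ^ (2 - 1)) := by
      have tx := (f.cS hx).eq
      rcases f.fix_sq e hx hc (f.cc ▸ f.cS hx) with h | h
      · exact Commute.mul_left (mul_inv_eq_iff_eq_mul.1 h) (mul_inv_eq_iff_eq_mul.1 h)
      · rw [mul_inv_eq_iff_eq_mul] at h
        change x * x * _ = _ * (x * x)
        rw [mul_assoc, h, ← mul_assoc, ← mul_assoc, h, mul_assoc _ x t, tx]
        simp only [mul_assoc]; rw [← mul_assoc t t, e.sq, one_mul]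
    rw [hj] at this
    simpa using (this.mul_left (((Commute.refl σ).zpow_left (2 * j + 1)).pow_right _).inv_left).symm
  have hy : Commute x (σ ^ 2) := by
    have : zpowers (x * x) = zpowers (σ ^ 2) := eq_of_le_of_card_ge (zpowers_le.2 h2) (by
      rw [Nat.card_zpowers, Nat.card_zpowers, ← x2]; exact ((MulAut.conj g).orderOf_eq _).ge)
    obtain ⟨k, hk⟩ := this ▸ mem_zpowers (σ ^ 2)
    rw [← hk]; exact ((Commute.refl x).mul_right (Commute.refl x)).zpow_right k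
  obtain ⟨l, hl⟩ := f.dec e hx
  set u := (σ ^ l)⁻¹ * x with hu
  have uS : u ∈ S := mul_mem (inv_mem (zpow_mem f.σS l)) hx
  have uy : Commute u (σ ^ 2) := (((Commute.refl σ).zpow_left l).pow_right 2).inv_left.mul_left hy
  have uP : u ∈ P := f.memP e uS hl (by obtain ⟨k, hk⟩ := f.cy; rw [← hk]; exact uy.zpow_right k)
  have xu : x = σ ^ l * u := by rw [hu, mul_inv_cancel_left]
  obtain ⟨k, rfl⟩ : ∃ k, l = 2 * k + 1 := by
    rcases Int.even_or_odd' l with ⟨k, rfl | rfl⟩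
    exacts [absurd (xu ▸ mul_mem (f.evP e k) uP) xP, ⟨k, rfl⟩]
  set w := σ ^ (2 * k + 1) with hw
  have wz : w ∈ zpowers σ := zpow_mem hσ _
  have uu : u * u = 1 := by
    have h3 : u * u = (w * (u * w * u⁻¹))⁻¹ * (x * x) := by rw [xu]; group
    have h4 : u * u ∈ zpowers σ :=
      h3 ▸ mul_mem (inv_mem (mul_mem wz (f.nz e uS wz))) (zpowers_le.2 (pow_mem hσ 2) h2)
    exact (f.cs e h4 (hl.mul_left hl)).resolve_right (e.sq_ne_t f.cj (f.cS f.sS) f.ne hl)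
  have tx : t ∈ zpowers x := by
    have : x ^ 2 ^ m = t := by rw [hxd, conj_pow, f.pow, hg.eq, mul_inv_cancel_right]
    exact this ▸ pow_mem (mem_zpowers x) _
  have sx : s ∈ normalizer (zpowers x : Set G) := by
    refine mem_normalizer_zpowers ?_
    have h3 : s * x * s⁻¹ = w⁻¹ * t * u := by
      rw [← f.so e k, xu, mul_assoc _ _ u, ← hl.inv_right.eq]; simp only [hw, mul_assoc]
    have ui : u⁻¹ = u := inv_eq_of_mul_eq_one_right uu
    have h4 : x⁻¹ = (u * w * u⁻¹)⁻¹ * u := by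
      rw [xu, mul_inv_rev, ui]; simp only [mul_inv_rev, ui, mul_assoc, uu, mul_one]
    have wt := (f.cS (zpowers_le.2 f.σS wz)).inv_left.eq
    have ut := (f.cS uS).eq
    have h5 : Commute u (w * w) := by
      rw [hw, ← zpow_add, ← two_mul, zpow_mul]; exact (show Commute u (σ ^ (2 : ℤ)) by simpa using uy).zpow_right _
    rcases f.fix_sq e uS wz h5 with h | h <;> rw [h] at h4
    · rw [h3, mul_assoc, ← ut, ← mul_assoc, ← h4]; exact mul_mem (inv_mem (mem_zpowers x)) tx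
    · rw [h3, wt, ← inv_eq_of_mul_eq_one_right e.sq, ← mul_inv_rev, ← h4]; exact inv_mem (mem_zpowers x)
  have hN : IsSylowIn 2 (Tech.cj g S) (centralizer {t} ⊓ normalizer (zpowers x : Set G)) := by
    have h3 := f.syl.cj_of_mem (mem_centralizer_singleton_iff.2 hg)
    refine h3.of_le (le_inf h3.le ?_) inf_le_left
    rw [hxd, ← cj_zpowers, ← cj_normalizer]; exact cj_mono g fun y hy => f.nrm e hy
  obtain ⟨n, hn, h3⟩ := hN.exists_cj_le (Q := S ⊓ normalizer (zpowers x : Set G)) (f.syl.pgroup.to_inf_left)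
    (inf_le_inf_right _ f.syl.le)
  have dt : Commute (g⁻¹ * n) t := hg.inv_left.mul_left (mem_centralizer_singleton_iff.1 hn.1)
  obtain ⟨a, ha⟩ := f.gam' e dt f.cj f.ne (by simpa [mul_assoc] using mem_cj.1 (cj_le_iff.1 h3 s ⟨f.sS, sx⟩))
  obtain ⟨b, hb⟩ : g⁻¹ * n * x * (g⁻¹ * n)⁻¹ ∈ zpowers σ := by
    have := (mem_normalizer_iff.1 hn.2 x).1 (mem_zpowers x)
    conv at this => lhs; rw [hxd, ← cj_zpowers]
    simpa [mul_assoc] using mem_cj.1 this
  obtain ⟨i, rfl⟩ : ∃ i, b = 2 * i + 1 := by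
    rcases Int.even_or_odd' b with ⟨i, rfl | rfl⟩
    · have := e.conj_mem dt.inv_left (f.evP e i)
      simp only [hb] at this
      exact absurd (by simpa [mul_assoc] using this) xP
    · exact ⟨i, rfl⟩
  have h4 : s * x = (g⁻¹ * n)⁻¹ * (s * σ ^ (2 * (a + i) + 1)) * (g⁻¹ * n)⁻¹⁻¹ := by
    have : s * σ ^ (2 * (a + i) + 1) = s * σ ^ (2 * a) * σ ^ (2 * i + 1) := by group
    simp only [this, hb, ← ha]; group
  have h5 : s * x ∈ Sg s σ := by
    rcases f.fourq e dt.inv_left (a + i) (h4 ▸ mul_mem f.sS hx) with h | ⟨j, h⟩ <;> rw [← h4] at h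
    exacts [mem_sup_left (zpowers_le.2 (pow_mem hσ 2) h), h ▸ sz_mem _]
  exact (mul_mem_cancel_left (mem_sup_right (mem_zpowers s))).1 h5

/-- a conjugating element which keeps a square root of `t` in `S` centralises `t` -/
theorem comm_of_root {g w : G} (hw : w * w = t) (h : g * w * g⁻¹ ∈ S) : Commute g t := by
  have h1 : g * t * g⁻¹ = g * w * g⁻¹ * (g * w * g⁻¹) := by rw [conj_mul, hw]
  by_contra hn
  exact e.out _ (isConj_iff.2 ⟨g, rfl⟩) (h1 ▸ f.cS (mul_mem h h)) (fun h => hn (mul_inv_eq_iff_eq_mul.1 h))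
    (h1 ▸ e.sq_mem (f.cS h))

theorem closed : IsStronglyClosed (Sg s σ) S := by
  refine ⟨f.Sg_le, fun x hx g hS => ?_⟩
  have hσ := mem_zpowers σ
  have hy : zpowers (σ ^ 2) ≤ Sg s σ := (zpowers_le.2 (pow_mem hσ 2)).trans le_sup_left
  obtain ⟨j, rfl | rfl⟩ := f.mem_Sg e hx
  · have pw {y : G} (h : y ∈ zpowers (σ ^ j)) : g * y * g⁻¹ ∈ S := by
      obtain ⟨k, rfl⟩ := h
      simpa only [conj_zpow] using zpow_mem hS k
    by_cases h2 : σ ^ j * σ ^ j = 1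
    · rcases f.inv1 e ⟨j, rfl⟩ h2 with h | h <;> simp only [h] at hS ⊢
      · simp
      · exact f.T_mem hS (isConj_iff.2 ⟨g, rfl⟩)
    obtain ⟨d, hd, h3⟩ := exists_dvd_zpow_mem_iff σ (zpowers (σ ^ j))
    rw [f.ord, Nat.dvd_prime_pow Nat.prime_two] at hd
    obtain ⟨i, hi, rfl⟩ := hd
    have hc : σ ^ 2 ^ (m - 1) ∈ zpowers (σ ^ j) := by
      rw [← zpow_natCast, h3, Int.natCast_dvd_natCast]
      refine pow_dvd_pow 2 (not_lt.1 fun h => h2 ?_)
      obtain ⟨k, hk⟩ := (Int.natCast_dvd_natCast.2 (pow_dvd_pow 2 (show m ≤ i by omega))).trans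
        ((h3 j).1 (mem_zpowers _))
      rw [hk, zpow_mul, zpow_natCast, f.pow, ← (Commute.refl t).mul_zpow, e.sq, one_zpow]
    have hg := f.comm_of_root e f.cc (pw hc)
    rcases Int.even_or_odd' j with ⟨k, rfl | rfl⟩
    · by_cases h4 : (σ ^ (2 * k)) ^ 4 = 1
      · have h5 : g * σ ^ 2 ^ (m - 1) * g⁻¹ ∈ Sg s σ := by
          rcases f.four g hg (pw hc) with h | ⟨j, h⟩
          exacts [hy h, h ▸ sz_mem _]
        have h6 : σ ^ (2 * k) * σ ^ (2 * k) = t := (f.inv1 e (mul_mem ⟨_, rfl⟩ ⟨_, rfl⟩) (by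
          rw [← h4]; simp only [pow_succ, pow_zero, one_mul, mul_assoc])).resolve_left h2
        rcases f.rt e ⟨_, rfl⟩ h6 with h | h <;> simp only [h, ← conj_mul (b := g)]
        · exact h5
        · exact mul_mem h5 (by rw [hg.eq, mul_inv_cancel_right]; exact mem_sup_left f.tz)
      · exact hy (f.big _ ⟨k, by simp only [← zpow_natCast σ 2, ← zpow_mul]; rfl⟩ h4 g hg hS)
    · have h4 : σ ∈ zpowers (σ ^ (2 * k + 1)) := by
        have h5 := (h3 _).1 (mem_zpowers _)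
        rcases i with _ | i
        · simpa using (h3 1).2 (by simp)
        · obtain ⟨a, ha⟩ := h5
          rw [pow_succ'] at ha; push_cast at ha; rw [mul_assoc] at ha; omega
      simpa only [conj_zpow] using zpow_mem (f.closed_σ e hg (pw h4)) (2 * k + 1)
  · rcases Int.even_or_odd' j with ⟨k, rfl | rfl⟩
    · exact f.T_mem hS ((f.cjs e k).trans (isConj_iff.2 ⟨g, rfl⟩))
    · have h1 : s * σ ^ (2 * k + 1) * (s * σ ^ (2 * k + 1)) = t := by
        have := f.so e k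
        rw [f.si e] at this
        rw [← mul_assoc, this, ((f.cS f.σS).zpow_left _).inv_left.eq, inv_mul_cancel_right]
      rcases f.fourq e (f.comm_of_root e h1 hS) k hS with h | ⟨j, h⟩
      exacts [hy h, h ▸ sz_mem _]

end Fr

end CfsgLib.StdExc
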