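import Mathlib
import Cfsg.Agent.Lib.StdExc.ClosedA
import Cfsg.Agent.S2767

/-!
# The exceptional configuration: the centraliser of the frame in `S` is its centre
-/

set_option autoImplicit false
set_option linter.unusedSectionVars false

namespace CfsgLib.StdExc

open Subgroup Cfsg CfsgLib.Tech CfsgLib.TwoGrp

variable {G : Type*} [Group G] [Finite G] {A P A' P' : Subgroup G} {t : G} {S : Subgroup G} {s σ : G} {m : ℕ}

/-- the elements of `S ∩ P ∩ P'` commuting with `s` -/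
abbrev Ug (S P P' : Subgroup G) (s : G) : Subgroup G := S ⊓ (P ⊓ P') ⊓ centralizer {s}

namespace Fr

variable (f : Fr A P t S s σ m) (e : Exc A P t) (e' : Exc A' P' s)
include f e e'

theorem tP' : t ∉ P' := e'.out t f.cj.symm (f.cS f.sS).symm f.ne.symm

variable {z : G} (hz : z ∈ Ug S P P' s ⊓ centralizer {σ})
include hz

theorem trans_t {t₁ : G} (h1 : IsConj t t₁) (h2 : Commute t₁ z) : ∃ a, Commute a z ∧ a * t * a⁻¹ = t₁ := by
  obtain ⟨⟨⟨zS, zP, zP'⟩, zs⟩, zσ⟩ := hz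
  replace zs : Commute z s := mem_centralizer_singleton_iff.1 zs
  replace zσ : Commute z σ := mem_centralizer_singleton_iff.1 zσ
  obtain ⟨r, rr, hr⟩ := e.root S f.syl.pgroup fun x hx => f.cS hx
  obtain ⟨r', rr', hr'⟩ := e'.root (S ⊓ centralizer {s}) f.syl.pgroup.to_inf_left
    fun x hx => mem_centralizer_singleton_iff.1 hx.2
  have key {a b x : G} (h : a * x * a⁻¹ = x⁻¹) (hx : x * x = b) : x * a * x⁻¹ = b * a := by
    have : a * x⁻¹ * a⁻¹ = x := by rw [← conj_inv, h, inv_inv]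
    rw [← hx, mul_assoc, mul_inv_eq_iff_eq_mul.1 this, mul_assoc]
  have h3 := key ((hr s f.sS).2 (f.sP e)) rr
  have h4 := key ((hr' t ⟨f.tS, mem_centralizer_singleton_iff.2 (f.cS f.sS).symm⟩).2 (f.tP' e e')) rr'
  have hb : r⁻¹ * r' * t * (r⁻¹ * r')⁻¹ = s := by
    calc _ = r⁻¹ * (r' * t * r'⁻¹) * r := by group
      _ = _ := by rw [h4, (f.cS f.sS).eq, ← h3]; group
  have bz : Commute (r⁻¹ * r') z :=
    ((hr z zS).1 zP).symm.inv_left.mul_left ((hr' z ⟨zS, mem_centralizer_singleton_iff.2 zs⟩).1 zP').symm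
  obtain ⟨Z, hZ, hle⟩ := exists_isSylowIn_ge (p := 2) (Q := Sg s σ) (H := centralizer {z})
    (f.syl.pgroup.to_le f.Sg_le) (sup_le (zpowers_le.2 (mem_centralizer_singleton_iff.2 zσ.symm))
      (zpowers_le.2 (mem_centralizer_singleton_iff.2 zs.symm)))
  obtain ⟨k, -, hk⟩ := (f.sylTop e).exists_cj_le hZ.pgroup le_top
  have kn : k ∈ normalizer (Sg s σ : Set G) :=
    mem_normalizer_of_forall fun x hx => (f.closed e).2 x hx k (cj_le_iff.1 hk x (hle hx))
  obtain ⟨a, ha, h5⟩ := hZ.exists_conj_mem (mem_centralizer_singleton_iff.2 h2) (isPGroup_zpowers_of_pow (k := 1) (by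
    obtain ⟨g, rfl⟩ := isConj_iff.1 h1
    rw [conj_pow, pow_one, pow_two, e.sq]; group))
  replace ha : Commute a z := mem_centralizer_singleton_iff.1 ha
  have h6 : IsConj t (a * t₁ * a⁻¹) := h1.trans (isConj_iff.2 ⟨a, rfl⟩)
  have h7 := (mem_normalizer_iff.1 kn _).2 (f.T_mem (cj_le_iff.1 hk _ h5) (h6.trans (isConj_iff.2 ⟨k, rfl⟩)))
  rcases f.gam _ (f.Sg_le h7) h6 with h | ⟨j, h⟩
  · exact ⟨a⁻¹, ha.inv_left, by rw [← h]; group⟩
  · obtain ⟨l, hl⟩ := f.tr e j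
    refine ⟨a⁻¹ * σ ^ l * (r⁻¹ * r'), (ha.inv_left.mul_left (zσ.symm.zpow_left l)).mul_left bz, ?_⟩
    calc _ = a⁻¹ * (σ ^ l * (r⁻¹ * r' * t * (r⁻¹ * r')⁻¹) * (σ ^ l)⁻¹) * a := by group
      _ = _ := by rw [hb, hl, ← h]; group

theorem conj_t {g : G} (h : Commute (g * z * g⁻¹) t) : ∃ d, Commute d t ∧ g * z * g⁻¹ = d * z * d⁻¹ := by
  obtain ⟨a, ha, h1⟩ := f.trans_t e e' hz (t₁ := g⁻¹ * t * g) (isConj_iff.2 ⟨g⁻¹, by rw [inv_inv]⟩)
    (comm_conj.1 h.symm)
  refine ⟨g * a, ?_, ?_⟩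
  · calc g * a * t = g * (a * t * a⁻¹) * a := by group
      _ = _ := by rw [h1]; group
  · rw [mul_assoc g a, ha.eq]; group

theorem conj_s {g : G} (h : Commute (g * z * g⁻¹) s) : g * z * g⁻¹ ∈ P' := by
  obtain ⟨a, ha, h1⟩ := f.trans_t e e' hz (t₁ := g⁻¹ * s * g) (f.cj.trans (isConj_iff.2 ⟨g⁻¹, by rw [inv_inv]⟩))
    (comm_conj.1 h.symm)
  obtain ⟨b, hb, h2⟩ := f.trans_t e e' hz f.cj (Commute.symm (mem_centralizer_singleton_iff.1 hz.1.2))
  have h3 : Commute (g * (a * b⁻¹)) s := by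
    calc g * (a * b⁻¹) * s = g * (a * t * a⁻¹) * (a * b⁻¹) := by rw [← h2]; group
      _ = _ := by rw [h1]; group
  have := e'.conj_mem h3 hz.1.1.2.2
  rwa [mul_assoc g, (ha.mul_left hb.inv_left).eq, ← mul_assoc, mul_inv_rev g, ← mul_assoc,
    mul_inv_cancel_right] at this

theorem not_conj {g x : G} (h : Commute (g * z * g⁻¹) t) : x * (g * z * g⁻¹) * x⁻¹ ≠ g * z * g⁻¹ * t := fun h1 => by
  obtain ⟨d, hd, h2⟩ := f.conj_t e e' hz h
  have h3 : d⁻¹ * x * g * z * (d⁻¹ * x * g)⁻¹ = z * t := by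
    calc _ = d⁻¹ * (x * (g * z * g⁻¹) * x⁻¹) * d := by group
      _ = _ := by rw [h1, h2, mul_assoc _ d⁻¹ t, hd.inv_left.eq]; group
  have := f.conj_s e e' hz (g := d⁻¹ * x * g)
    (h3 ▸ Commute.mul_left (mem_centralizer_singleton_iff.1 hz.1.2) (f.cS f.sS).symm)
  exact f.tP' e e' ((mul_mem_cancel_left (H := P') hz.1.1.2.2).1 (h3 ▸ this))

omit hz in
theorem closedU : IsStronglyClosed (Ug S P P' s ⊓ centralizer {σ}) S := by
  refine ⟨inf_le_left.trans (inf_le_left.trans inf_le_left), fun z hz g => ?_⟩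
  obtain ⟨n, hn⟩ := isPGroup_iff_mem.1 f.syl.pgroup z hz.1.1.1
  induction n generalizing z with
  | zero => rintro -; rw [pow_zero, pow_one] at hn; simp [hn]
  | succ n ih =>
    intro hS
    have h2 := ih (z * z) (mul_mem hz hz) (by rw [← pow_two, ← pow_mul, ← pow_succ', hn])
      (by rw [← conj_mul]; exact mul_mem hS hS)
    rw [← conj_mul] at h2
    have hB (x : G) := f.not_conj e e' hz (x := x) (f.cS hS)
    have hP : g * z * g⁻¹ ∈ P := by
      obtain ⟨d, hd, h⟩ := f.conj_t e e' hz (f.cS hS)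
      exact h ▸ e.conj_mem hd hz.1.1.2.1
    have hs := f.conj_s e e' hz (g := g)
    generalize g * z * g⁻¹ = y at *
    have yσ (i : ℕ) : ∀ x ∈ zpowers σ, x ^ 2 ^ i = 1 → Commute y x := by
      induction i with
      | zero => intro x _ h; rw [pow_zero, pow_one] at h; simp [h]
      | succ i ih =>
        intro x hx h
        rcases f.fix_sq e hS hx (ih _ (mul_mem hx hx) (by rw [← pow_two, ← pow_mul, ← pow_succ', h])) with h | h
        · exact mul_inv_eq_iff_eq_mul.1 h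
        · refine absurd ?_ (hB x⁻¹)
          rw [(f.cS hS).eq, inv_inv, mul_assoc, mul_inv_eq_iff_eq_mul.1 h]; group
    replace yσ := yσ (m + 1) σ (mem_zpowers σ) (f.ord ▸ pow_orderOf_eq_one σ)
    obtain ⟨l, hl⟩ := f.dec e hS
    obtain ⟨u, hu⟩ : ∃ u, u = (σ ^ l)⁻¹ * y := ⟨_, rfl⟩
    rw [← hu] at hl
    have uσ : Commute u σ := hu ▸ ((Commute.refl σ).zpow_left l).inv_left.mul_left yσ
    have yu : y = σ ^ l * u := by rw [hu, mul_inv_cancel_left]
    have uP := f.memP e (hu ▸ mul_mem (inv_mem (zpow_mem f.σS l)) hS) hl (uσ.pow_right _)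
    obtain ⟨k, rfl⟩ : ∃ k, l = 2 * k := by
      rcases Int.even_or_odd' l with ⟨k, rfl | rfl⟩
      exacts [⟨k, rfl⟩, absurd ((mul_mem_cancel_right uP).1 (yu ▸ hP)) (f.odP e k)]
    obtain ⟨w, hw⟩ : ∃ w, w = σ ^ (2 * k) := ⟨_, rfl⟩
    have sw : s * w * s⁻¹ = w⁻¹ := hw ▸ f.se e k
    have wz : w ∈ zpowers σ := ⟨_, hw.symm⟩
    have uw : Commute u w := hw ▸ uσ.zpow_right _
    rw [← hw] at yu
    have h3 : Commute (w * w) s := by
      have : w * w = y * y * (u * u)⁻¹ := by rw [yu, mul_assoc w u, ← mul_assoc u, uw.eq]; group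
      exact this ▸ Commute.mul_left (mem_centralizer_singleton_iff.1 h2.1.2) (hl.mul_left hl).inv_left
    have h4 : s * y * s⁻¹ = (w * w)⁻¹ * y := by
      calc _ = s * w * s⁻¹ * u := by rw [yu, mul_assoc _ _ u, ← hl.inv_right.eq]; group
        _ = _ := by rw [sw, yu]; group
    have ys : Commute y s := by
      rcases f.cs e (mul_mem wz wz) h3 with h | h <;> rw [h] at h4
      · exact (mul_inv_eq_iff_eq_mul.1 (by simpa using h4)).symm
      · exact absurd (by rw [h4, inv_eq_of_mul_eq_one_right e.sq, (f.cS hS).eq]) (hB s)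
    exact ⟨⟨⟨hS, hP, hs ys⟩, mem_centralizer_singleton_iff.2 ys⟩, mem_centralizer_singleton_iff.2 yσ⟩

omit hz in
theorem U_inf {x : G} (h1 : x ∈ Sg s σ) (h2 : x ∈ Ug S P P' s) : x = 1 := by
  have h3 : Commute x s := mem_centralizer_singleton_iff.1 h2.2
  obtain ⟨j, rfl | rfl⟩ := f.mem_Sg e h1
  · exact (f.cs e ⟨j, rfl⟩ h3).resolve_right fun h => f.tP' e e' (h ▸ h2.1.2.2)
  · refine absurd ((mul_mem_cancel_right (H := P) ?_).1 h2.1.2.1) (f.sP e)
    rcases f.cs e ⟨j, rfl⟩ (by simpa using (Commute.refl s).inv_left.mul_left h3) with h | h <;> simp only [h]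
    exacts [one_mem _, e.tP]

omit hz in
theorem U_eq_one (hO : oddCore G = ⊥) {u : G} (h1 : u ∈ Ug S P P' s) (h2 : Commute u σ) : u = 1 := by
  have h3 := Cfsg.Agent.S2767.result (f.sylTop e).toSylowTop _ _ (f.closed e) (f.closedU e e') fun a ha b hb =>
    (show Sg s σ ≤ centralizer {b} from sup_le
      (zpowers_le.2 (mem_centralizer_singleton_iff.2 (mem_centralizer_singleton_iff.1 hb.2).symm))
      (zpowers_le.2 (mem_centralizer_singleton_iff.2 (mem_centralizer_singleton_iff.1 hb.1.2).symm))) ha b rfl |>.symm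
  have h4 : Sg s σ ⊓ (Ug S P P' s ⊓ centralizer {σ}) = ⊥ := eq_bot_iff.2 fun x hx => f.U_inf e e' hx.1 hx.2.1
  rw [h4, show pPrimeCore 2 G = ⊥ from hO, sup_bot_eq, coe_bot, normalClosure_eq_bot_iff.2 subset_rfl, le_bot_iff,
    commutator_comm, commutator_eq_bot_iff_le_centralizer] at h3
  have h5 : A ≤ normalClosure (Sg s σ : Set G) := by
    rcases Comp.qs_sub_normal e.qs (N := A ⊓ normalClosure (Sg s σ : Set G)) inf_le_left (fun a ha =>
      mem_normalizer_of_forall fun x hx => ⟨A.mul_mem (A.mul_mem ha hx.1) (A.inv_mem ha),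
        normalClosure_normal.conj_mem x hx.2 a⟩) with h | h
    · exact inf_eq_left.1 h
    · have := h ⟨f.qA, le_normalClosure (by simpa using sz_mem (s := s) (σ := σ) 1)⟩ _ f.yA
      refine absurd ?_ (f.nys e)
      simpa using Commute.mul_right this ((Commute.refl σ).pow_left 2).inv_right
  by_contra hu
  have hU : u ∈ Ug S P P' s ⊓ centralizer {σ} := ⟨h1, mem_centralizer_singleton_iff.2 h2⟩
  obtain ⟨v, hv, v1, vv⟩ : ∃ v ∈ zpowers u, v ≠ 1 ∧ v * v = 1 := by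
    obtain ⟨n, hn⟩ := isPGroup_iff_mem.1 f.syl.pgroup u h1.1.1
    obtain ⟨k, -, hk⟩ := (Nat.dvd_prime_pow Nat.prime_two).1 (orderOf_dvd_of_pow_eq_one hn)
    rcases k with _ | k
    · exact absurd (orderOf_eq_one_iff.1 hk) hu
    refine ⟨u ^ 2 ^ k, pow_mem (mem_zpowers u) _, pow_ne_one_of_lt_orderOf (by positivity) ?_, ?_⟩
    · rw [hk]; exact Nat.pow_lt_pow_right (by norm_num) k.lt_succ_self
    · rw [← pow_two, ← pow_mul, ← pow_succ, ← hk, pow_orderOf_eq_one]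
  have vU := zpowers_le.2 hU hv
  rcases e.cen v vv (f.cS vU.1.1.1) (centralizer_le h5 (h3 (le_normalClosure vU))) with h | h
  exacts [v1 h, f.tP' e e' (h ▸ vU.1.1.2.2)]

end Fr

end CfsgLib.StdExc
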