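import Mathlib
import Cfsg.Agent.Lib.StdExc.ClosedB
import Cfsg.Agent.Lib.Transfer.Thompson

/-!
# The exceptional configuration: the frame is a Sylow 2-subgroup of the normal closure of `A`
-/

set_option autoImplicit false
set_option linter.unusedSectionVars false

namespace CfsgLib.StdExc

open Subgroup Cfsg CfsgLib.Tech CfsgLib.TwoGrp

variable {G : Type*} [Group G] [Finite G] {A P A' P' : Subgroup G} {t : G} {S : Subgroup G} {s σ : G} {m : ℕ}

/-- Thompson transfer for a coset of a subgroup containing the derived group of a subgroup of odd index -/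
theorem mem_of_transfer (hG : _root_.commutator G = ⊤) {H Q : Subgroup G} (hH : ¬ 2 ∣ H.index)
    (hc : ∀ x ∈ H, ∀ y ∈ H, x * y * x⁻¹ * y⁻¹ ∈ Q) {u : G} (hu : u ∈ H) (uu : u * u = 1)
    (key : ∀ g, g⁻¹ * u * g ∈ H → g⁻¹ * u * g * u⁻¹ ∈ Q) : u ∈ Q := by
  by_cases h1 : u = 1
  · exact h1 ▸ one_mem _
  have h2 : Abelianization.of (⟨u, hu⟩ : H) ^ 2 = 1 := by
    rw [← map_pow, pow_two, show (⟨u, hu⟩ * ⟨u, hu⟩ : H) = 1 from Subtype.ext uu, map_one]
  have h3 := Transfer.transfer_mul_inv_pow_mem_of_prime (Abelianization.of (G := H))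
    ((Q.subgroupOf H).map Abelianization.of) Nat.prime_two u (orderOf_eq_prime (by rw [pow_two, uu]) h1)
    (Abelianization.of ⟨u, hu⟩) (h2 ▸ one_mem _) fun g h => ⟨⟨_, h⟩ * ⟨u, hu⟩⁻¹, key g h, by simp⟩
  have h4 : MonoidHom.transfer (Abelianization.of (G := H)) u = 1 :=
    Abelianization.commutator_subset_ker _ (hG ▸ mem_top u)
  obtain ⟨k, hk⟩ := Nat.odd_iff.2 (Nat.two_dvd_ne_zero.1 hH)
  rw [h4, one_mul, inv_mem_iff, hk, pow_succ, pow_mul, h2, one_pow, one_mul] at h3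
  have h5 : (⟨u, hu⟩ : H) ∈ ((Q.subgroupOf H).map Abelianization.of).comap Abelianization.of := h3
  rwa [comap_map_eq, Abelianization.ker_of, _root_.commutator_def,
    sup_eq_left.2 (commutator_le.2 fun (x : H) _ (y : H) _ => hc _ x.2 _ y.2)] at h5

namespace Fr

variable (f : Fr A P t S s σ m) (e : Exc A P t) (e' : Exc A' P' s)
include f e e'

theorem decU {x : G} (hx : x ∈ S) : ∃ w ∈ Sg s σ, ∃ u ∈ Ug S P P' s, x = w * u := by
  obtain ⟨l, hl⟩ := f.dec e hx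
  have h1 : (σ ^ l)⁻¹ * x ∈ S := mul_mem (inv_mem (zpow_mem f.σS l)) hx
  obtain ⟨w, hw, u, uS, us, uP, rfl⟩ : ∃ w ∈ Sg s σ, ∃ u ∈ S, Commute u s ∧ u ∈ P ∧ x = w * u := by
    by_cases h : (σ ^ l)⁻¹ * x ∈ P
    · exact ⟨_, z_mem l, _, h1, hl, h, by group⟩
    · exact ⟨σ ^ l * s⁻¹, mul_mem (z_mem l) (inv_mem (mem_sup_right (mem_zpowers s))), _, mul_mem f.sS h1,
        (Commute.refl s).mul_left hl, e.idx _ _ (f.cS f.sS) (f.cS h1) (f.sP e) h, by group⟩
  by_cases h : u ∈ P'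
  · exact ⟨w, hw, u, ⟨⟨uS, uP, h⟩, mem_centralizer_singleton_iff.2 us⟩, rfl⟩
  · exact ⟨w * t⁻¹, mul_mem hw (inv_mem (mem_sup_left f.tz)), t * u, ⟨⟨mul_mem f.tS uS, mul_mem e.tP uP,
      e'.idx _ _ (f.cS f.sS).symm us (f.tP' e e') h⟩,
      mem_centralizer_singleton_iff.2 ((f.cS f.sS).symm.mul_left us)⟩, by group⟩

theorem U_c {u : G} (hu : u ∈ Ug S P P' s) : Commute u (σ ^ 2 ^ (m - 1)) :=
  f.fix u hu.1.1 hu.1.2.1 (mem_centralizer_singleton_iff.1 hu.2)

variable (hO : oddCore G = ⊥)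
include hO

theorem mem_of_comm {x : G} (hx : x ∈ S) (h : Commute x σ) : x ∈ Sg s σ := by
  obtain ⟨w, hw, u, hu, rfl⟩ := f.decU e e' hx
  obtain ⟨j, rfl | rfl⟩ := f.mem_Sg e hw
  · rw [f.U_eq_one e e' hO hu (by simpa using ((Commute.refl σ).zpow_left j).inv_left.mul_left h), mul_one]
    exact hw
  · refine absurd ?_ (f.ncs e)
    simpa using (((h.pow_right _).mul_left (f.U_c e e' hu).inv_left).mul_left
      (((Commute.refl σ).zpow_left j).pow_right _).inv_left).symm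

theorem comm_mem {x y : G} (hx : x ∈ S) (hy : y ∈ S) : x * y * x⁻¹ * y⁻¹ ∈ Sg s σ := by
  refine f.mem_of_comm e e' hO (mul_mem (mul_mem (mul_mem hx hy) (inv_mem hx)) (inv_mem hy)) ?_
  have key {a b : G} {i j : ℤ} (ha : σ ^ i = a * σ * a⁻¹) (hb : σ ^ j = b * σ * b⁻¹) :
      a * b * σ * (a * b)⁻¹ = σ ^ (i * j) := by
    calc _ = a * (b * σ * b⁻¹) * a⁻¹ := by group
      _ = _ := by rw [← hb, ← conj_zpow, ← ha, zpow_mul]
  obtain ⟨i, hi⟩ := f.nz e (inv_mem hx) (mem_zpowers σ)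
  obtain ⟨j, hj⟩ := f.nz e (inv_mem hy) (mem_zpowers σ)
  have := (key hi hj).trans ((mul_comm i j ▸ rfl : σ ^ (i * j) = σ ^ (j * i)).trans (key hj hi).symm)
  calc x * y * x⁻¹ * y⁻¹ * σ = x * y * (x⁻¹ * y⁻¹ * σ * (x⁻¹ * y⁻¹)⁻¹) * (x⁻¹ * y⁻¹) := by group
    _ = _ := by rw [this]; group

/-- an involution outside the frame acts, modulo the frame, as `σ ↦ σ t` -/
theorem outer {x : G} (hx : x ∈ S) (xx : x * x = 1) (hn : x ∉ Sg s σ) :
    ∃ w ∈ Sg s σ, ∃ v ∈ S, x = w * v ∧ v * σ * v⁻¹ = σ * t := by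
  obtain ⟨w, hw, v, hv, rfl⟩ := f.decU e e' hx
  have vS : v ∈ S := hv.1.1
  have vv : v * v = 1 := by
    refine f.U_inf e e' ?_ (mul_mem hv hv)
    have : v * v = (w * (v * w * v⁻¹))⁻¹ * (w * v * (w * v)) := by group
    rw [this, xx, mul_one]
    exact inv_mem (mul_mem hw ((f.closed e).2 w hw v (mul_mem (mul_mem vS (f.Sg_le hw)) (inv_mem vS))))
  have h (i : ℕ) : ∀ x ∈ zpowers σ, (x * x) ^ 2 ^ i = 1 → Commute v (x * x) := by
    induction i with
    | zero => intro x _ h; rw [pow_zero, pow_one] at h; simp [h]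
    | succ i ih =>
      intro x hx h
      have h2 := mul_mem hx hx
      rcases f.fix_sq e vS h2 (ih _ h2 (by rw [← pow_two, ← pow_mul, ← pow_succ', h])) with h | h
      · exact mul_inv_eq_iff_eq_mul.1 h
      have h3 := f.nz e vS hx
      obtain ⟨a, ha⟩ : ∃ a, a = x⁻¹ * (v * x * v⁻¹) := ⟨_, rfl⟩
      have az : a ∈ zpowers σ := ha ▸ mul_mem (inv_mem hx) h3
      have h4 : v * x * v⁻¹ = x * a := by rw [ha, mul_inv_cancel_left]
      have ax : Commute a x := by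
        obtain ⟨i, hi⟩ := hx
        obtain ⟨j, hj⟩ := az
        rw [← hj, ← hi]; exact Commute.zpow_zpow_self σ j i
      have aa : a * a = t := by
        rw [← conj_mul, h4, mul_assoc, ← mul_assoc a, ax.eq, mul_assoc, ← mul_assoc] at h
        exact mul_left_cancel h
      have va : Commute v a := by
        rcases f.rt e az aa with h | h <;> rw [h]
        exacts [f.U_c e e' hv, (f.U_c e e' hv).mul_right (f.cS vS)]
      have h5 : x = x * t := by
        calc x = v * v * x * (v * v)⁻¹ := by rw [vv]; group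
          _ = v * (v * x * v⁻¹) * v⁻¹ := by group
          _ = v * x * v⁻¹ * (v * a * v⁻¹) := by rw [conj_mul, h4]
          _ = _ := by rw [h4, va.eq, mul_inv_cancel_right, mul_assoc, aa]
      exact absurd (left_eq_mul.1 h5) e.ne
  refine ⟨w, hw, v, vS, rfl, (f.fix_sq e vS (mem_zpowers σ) (h m σ (mem_zpowers σ) ?_)).resolve_left fun h => ?_⟩
  · rw [← pow_two, ← pow_mul, ← pow_succ', ← f.ord, pow_orderOf_eq_one]
  · exact hn (by rwa [f.U_eq_one e e' hO hv (mul_inv_eq_iff_eq_mul.1 h), mul_one])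

theorem inf_eq (E : Subgroup G) [hN : E.Normal] (hAE : A ≤ E) (hE : _root_.commutator E = ⊤) :
    S ⊓ E = Sg s σ := by
  have tE : t ∈ E := by
    obtain ⟨k, hk⟩ := f.cy
    rw [← f.cc, ← hk]; exact mul_mem (zpow_mem (hAE f.yA) k) (zpow_mem (hAE f.yA) k)
  have sE : s ∈ E := by
    obtain ⟨g, hg⟩ := isConj_iff.1 f.cj
    exact hg ▸ hN.conj_mem t tE g
  have hle : Sg s σ ≤ E := sup_le (zpowers_le.2 ((mul_mem_cancel_left sE).1 (hAE f.qA))) (zpowers_le.2 sE)
  refine le_antisymm (fun x hx => ?_) (le_inf f.Sg_le hle)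
  obtain ⟨w, hw, v, hv, rfl⟩ := f.decU e e' hx.1
  have vE : v ∈ E := (E.mul_mem_cancel_left (hle hw)).1 hx.2
  by_cases hu : v = 1
  · rwa [hu, mul_one]
  obtain ⟨u, huz, u1, uu⟩ : ∃ u ∈ zpowers v, u ≠ 1 ∧ u * u = 1 := by
    obtain ⟨n, hn⟩ := isPGroup_iff_mem.1 f.syl.pgroup v hv.1.1
    obtain ⟨k, -, hk⟩ := (Nat.dvd_prime_pow Nat.prime_two).1 (orderOf_dvd_of_pow_eq_one hn)
    rcases k with _ | k
    · exact absurd (orderOf_eq_one_iff.1 hk) hu
    refine ⟨v ^ 2 ^ k, pow_mem (mem_zpowers v) _, pow_ne_one_of_lt_orderOf (by positivity) ?_, ?_⟩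
    · rw [hk]; exact Nat.pow_lt_pow_right (by norm_num) k.lt_succ_self
    · rw [← pow_two, ← pow_mul, ← pow_succ, ← hk, pow_orderOf_eq_one]
  have uU := zpowers_le.2 hv huz
  have uS : u ∈ S := uU.1.1
  have uE := zpowers_le.2 vE huz
  have un : u ∉ Sg s σ := fun h => u1 (f.U_inf e e' h uU)
  have hs := (f.sylTop e).inf_of_le_normalizer (N := E) (by rw [normalizer_eq_top])
  rw [top_inf_eq] at hs
  refine absurd (mem_of_transfer hE (H := (S ⊓ E).subgroupOf E) (Q := (Sg s σ).subgroupOf E) hs.not_dvd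
    (fun x hx y hy => f.comm_mem e e' hO hx.1 hy.1) (u := ⟨u, uE⟩) ⟨uS, uE⟩ (Subtype.ext uu) fun g hg => ?_) un
  have h1 : (g : G)⁻¹ * u * g ∈ S := hg.1
  obtain ⟨w₁, hw₁, v₁, hv₁, e₁, h₁⟩ := f.outer e e' hO uS uu un
  obtain ⟨w₂, hw₂, v₂, hv₂, e₂, h₂⟩ := f.outer e e' hO h1
    (by rw [show ∀ a : G, a⁻¹ * u * a * (a⁻¹ * u * a) = a⁻¹ * (u * u) * a from fun a => by group, uu]; group)
    fun h => un (by simpa [mul_assoc] using (f.closed e).2 _ h g (by simpa [mul_assoc] using uS))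
  have h3 : v₁⁻¹ * v₂ ∈ Sg s σ := f.mem_of_comm e e' hO (mul_mem (inv_mem hv₁) hv₂) (by
    calc v₁⁻¹ * v₂ * σ = v₁⁻¹ * (v₂ * σ * v₂⁻¹) * v₂ := by group
      _ = _ := by rw [h₂, ← h₁]; group)
  have h4 := (f.closed e).2 _ h3 v₁ (mul_mem (mul_mem hv₁ (f.Sg_le h3)) (inv_mem hv₁))
  change (g : G)⁻¹ * u * g * u⁻¹ ∈ Sg s σ
  rw [e₂]; conv => rhs; rw [e₁]
  simpa [mul_assoc] using mul_mem (mul_mem hw₂ h4) (inv_mem hw₁)

end Fr

theorem Fr.main {S : Subgroup G} {s σ : G} {m : ℕ} (e : Exc A P t) (f : Fr A P t S s σ m) (hO : oddCore G = ⊥)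
    (E : Subgroup G) [E.Normal] (hAE : A ≤ E) (hE : _root_.commutator E = ⊤) :
    t ∈ A ∧ PRankLE 2 1 A ∧ (∃ T : Sylow 2 E, IsQuasiDihedral (T : Subgroup E)) ∧
      ∀ x ∈ E, x * x = t → x ∉ centralizer (A : Set G) := by
  obtain ⟨g, hg⟩ := isConj_iff.1 f.cj
  have hi := f.inf_eq e (hg ▸ e.conj g) hO E hAE hE
  have hle : Sg s σ ≤ E := hi ▸ inf_le_right
  refine ⟨?_, fun B _ hB => ?_, ?_, fun x xE xx xA => ?_⟩
  · obtain ⟨k, hk⟩ := f.cy
    rw [← f.cc, ← hk]; exact mul_mem (zpow_mem f.yA k) (zpow_mem f.yA k)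
  · have hA : A ≤ centralizer {t} := fun a ha => mem_centralizer_singleton_iff.2 (e.le a (e.AP ha))
    have hs := f.syl.inf_of_le_normalizer (N := A) fun h hh => e.nA h (mem_centralizer_singleton_iff.1 hh)
    rw [inf_eq_right.2 hA] at hs
    have key (b : B) : ((b : A) : G) ∈ zpowers t := by
      have b2 : ((b : A) : G) ^ 2 ^ 1 = 1 := by simpa using congrArg Subtype.val (hB b b.2)
      obtain ⟨a, ha, h1⟩ := hs.exists_conj_mem (b : A).2 (isPGroup_zpowers_of_pow b2)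
      have h2 : a * (b : A) * a⁻¹ * (a * (b : A) * a⁻¹) = 1 := by
        rw [conj_mul, ← pow_two, show ((b : A) : G) ^ 2 = 1 from b2]; group
      have h3 : a * (b : A) * a⁻¹ ∈ zpowers t := by
        obtain ⟨j, h | h⟩ := f.mem_Sg e (hi.le ⟨h1.1, hAE h1.2⟩)
        · rcases f.inv1 e ⟨j, h.symm⟩ h2 with h | h <;> rw [h]
          exacts [one_mem _, mem_zpowers t]
        · rcases Int.even_or_odd' j with ⟨k, rfl | rfl⟩
          · exact absurd ((mul_mem_cancel_right (f.evP e k)).1 (h ▸ e.AP h1.2)) (f.sP e)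
          · have := f.so e k
            rw [f.si e] at this
            rw [h, ← mul_assoc, this, ((f.cS f.σS).zpow_left _).inv_left.eq, inv_mul_cancel_right] at h2
            exact absurd h2 e.ne
      obtain ⟨k, hk⟩ := h3
      refine ⟨k, ?_⟩
      calc t ^ k = a⁻¹ * t ^ k * a := by rw [((e.le a (e.AP ha)).inv_left.zpow_right k).eq]; group
        _ = _ := by simp only [hk]; group
    calc Nat.card B ≤ Nat.card (zpowers t) := Nat.card_le_card_of_injective (fun b => ⟨_, key b⟩)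
          fun a b h => Subtype.ext (Subtype.ext (by simpa using h))
      _ = 2 ^ 1 := by rw [Nat.card_zpowers, orderOf_eq_prime (by rw [pow_two, e.sq]) e.ne, pow_one]
  · have hs := (f.sylTop e).inf_of_le_normalizer (N := E) (by rw [normalizer_eq_top])
    rw [top_inf_eq, hi] at hs
    have σm : σ ∈ Sg s σ := mem_sup_left (mem_zpowers σ)
    have sm : s ∈ Sg s σ := mem_sup_right (mem_zpowers s)
    refine ⟨hs.toSylow, m + 1, Nat.succ_le_succ f.two, ?_, ⟨⟨σ, hle σm⟩, hs.mem_toSylow.2 σm⟩,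
      ⟨⟨s, hle sm⟩, hs.mem_toSylow.2 sm⟩, ?_, ?_, ?_⟩
    · rw [hs.coe_toSylow, Nat.card_congr (subgroupOfEquivOfLe hle).toEquiv,
        card_sup_zpowers (f.nrm e f.sS) (by rw [f.ss e]; exact one_mem _) (f.sz e), Nat.card_zpowers, f.ord,
        ← pow_succ']
    · rw [orderOf_mk, orderOf_mk, f.ord]
    · rw [orderOf_mk, orderOf_mk]
      exact orderOf_eq_prime (by rw [pow_two, f.ss e]) fun h => f.sz e (h ▸ one_mem _)
    · refine Subtype.ext (Subtype.ext ?_)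
      change s * σ * s⁻¹ = σ ^ (2 ^ m - 1)
      rw [f.inv, ← f.pow, inv_mul_eq_iff_eq_mul, ← pow_succ', Nat.sub_add_cancel Nat.one_le_two_pow]
  · have xt : Commute x t := xx ▸ (Commute.refl x).mul_right (Commute.refl x)
    obtain ⟨h, hh, h1⟩ := f.syl.exists_conj_mem (mem_centralizer_singleton_iff.2 xt)
      (isPGroup_zpowers_of_pow (k := 2) (by rw [pow_two, pow_mul, pow_two x, xx, pow_two, e.sq]))
    replace hh : Commute h t := mem_centralizer_singleton_iff.1 hh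
    have h2 : h * x * h⁻¹ * (h * x * h⁻¹) = t := by rw [conj_mul, xx, hh.eq, mul_inv_cancel_right]
    have h3 : h * x * h⁻¹ ∈ centralizer (A : Set G) := by
      rw [← mem_normalizer_iff_cj.1 (e.nA h hh), ← cj_centralizer]; exact conj_mem_cj.2 xA
    obtain ⟨j, h | h⟩ := f.mem_Sg e (hi.le ⟨h1, Normal.conj_mem ‹_› x xE h⟩) <;> rw [h] at h2 h3
    · have h4 : Commute (σ ^ j) (s * σ) := (h3 _ f.qA).symm
      rcases f.cs e ⟨j, rfl⟩ (by simpa using h4.mul_right ((Commute.refl σ).zpow_left j).inv_right) with h | h <;>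
        simp only [h] at h2
      exacts [e.ne (by simpa using h2.symm), e.ne (h2.symm.trans e.sq)]
    · have h4 : Commute (σ ^ 2) (s * σ ^ j) := h3 _ f.yA
      exact f.nys e (by simpa using h4.mul_right (((Commute.refl σ).pow_left 2).zpow_right j).inv_right)

end CfsgLib.StdExc
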