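import Mathlib
import Cfsg.Agent.Lib.StdExc.Defs
import Cfsg.Agent.Lib.DihSyl.Basic

/-!
# The exceptional configuration: the dihedral group generated by the conjugates of `t` in a Sylow 2-subgroup
-/

set_option autoImplicit false

namespace CfsgLib.StdExc

open Subgroup Cfsg CfsgLib.Tech

variable {G : Type*} [Group G] {A P S : Subgroup G} {t s b y x : G} {m : ℕ}

theorem mem_C {h : G} : h ∈ centralizer ({t} : Set G) ↔ Commute h t := mem_centralizer_singleton_iff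

theorem cj_zpow {k : ℤ} (h : x * y * x⁻¹ = y ^ k) (j : ℤ) : x * y ^ j * x⁻¹ = y ^ (k * j) := by
  rw [← conj_zpow, h, zpow_mul]

theorem inv_zpow_cj (h : x * y * x⁻¹ = y⁻¹) (j : ℤ) : x * y ^ j * x⁻¹ = y ^ (-j) := by
  rw [← conj_zpow, h, inv_zpow']

theorem inv_mul_zpow (h : x * y * x⁻¹ = y⁻¹) (j : ℤ) : y ^ j * x = x * y ^ (-j) := by
  rw [← mul_inv_eq_iff_eq_mul.1 ((inv_zpow_cj h (-j)).trans (by rw [neg_neg]))]

theorem inv_cj_zpow (h : x * y * x⁻¹ = y⁻¹) (j : ℤ) : y ^ j * x * (y ^ j)⁻¹ = x * y ^ (-(2 * j)) := by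
  rw [inv_mul_zpow h]; group

theorem ord_conj (h a : G) : orderOf (h * a * h⁻¹) = orderOf a := (MulAut.conj h).orderOf_eq a

theorem mem_zpowers_odd (hy : orderOf y = 2 ^ m) {i : ℤ} (hi : Odd i) : y ∈ zpowers (y ^ i) := by
  rw [mem_zpowers_zpow_iff, hy, ← Int.isCoprime_iff_gcd_eq_one]
  push_cast
  exact (Int.isCoprime_two_right.2 hi).pow_right

theorem exists_half (hy : orderOf y = 2 ^ m) (hb : b ∈ zpowers y) (h : ¬orderOf y ∣ orderOf b) :
    ∃ j : ℤ, b = y ^ (2 * j) := by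
  obtain ⟨i, rfl⟩ := mem_zpowers_iff.1 hb
  rcases Int.even_or_odd' i with ⟨j, rfl | rfl⟩
  · exact ⟨j, rfl⟩
  · exact absurd (orderOf_dvd_of_mem_zpowers (mem_zpowers_odd hy (odd_two_mul_add_one j))) h

theorem two_cases [Finite G] (hS : IsPGroup 2 S) (hb : b ∈ S) : b = 1 ∨ ∃ k, orderOf b = 2 ^ (k + 1) := by
  obtain ⟨_ | k, hk⟩ := isPGroup_zpowers_iff.1 (isPGroup_zpowers_of_mem hS hb)
  exacts [Or.inl (orderOf_eq_one_iff.1 hk), Or.inr ⟨k, hk⟩]

theorem ord_sq {k : ℕ} (h : orderOf b = 2 ^ (k + 1)) : orderOf (b * b) = 2 ^ k := by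
  rw [← pow_two, orderOf_pow_of_dvd two_ne_zero (h ▸ dvd_pow_self 2 k.succ_ne_zero), h, pow_succ]
  omega

theorem half_sq {k : ℕ} (h : orderOf b = 2 ^ (k + 1)) : b ^ 2 ^ k * b ^ 2 ^ k = 1 := by
  rw [← pow_add, ← two_mul, ← pow_succ', ← h, pow_orderOf_eq_one]

theorem half_ne {k : ℕ} (h : orderOf b = 2 ^ (k + 1)) : b ^ 2 ^ k ≠ 1 :=
  pow_ne_one_of_lt_orderOf (by positivity) (h ▸ Nat.pow_lt_pow_right one_lt_two k.lt_succ_self)

/-- the other conjugates of `t` commuting with `t` -/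
structure Gm (t s : G) : Prop where
  cj : IsConj t s
  cm : Commute s t
  ne : s ≠ t

theorem comm_cj {h : G} (hh : Commute h t) (hx : Commute x t) : Commute (h * x * h⁻¹) t :=
  (hh.mul_left hx).mul_left hh.inv_left

theorem Gm.conj (g : Gm t s) {h : G} (hh : Commute h t) : Gm t (h * s * h⁻¹) where
  cj := g.cj.trans (isConj_iff.2 ⟨h, rfl⟩)
  cm := comm_cj hh g.cm
  ne e := g.ne ((MulAut.conj h).injective (e.trans hh.mul_inv_cancel.symm))

theorem Gm.right (g : Gm t s) (gb : Gm t (s * b)) : Commute b t := by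
  simpa using g.cm.inv_left.mul_left gb.cm

/-- commutators of `C(t)` lie in `P` -/
theorem Exc.comm_mem (e : Exc A P t) {a u : G} (ha : Commute a t) (hu : Commute u t) :
    a⁻¹ * (u * a * u⁻¹) ∈ P := by
  by_cases h : a ∈ P
  · exact mul_mem (inv_mem h) (e.conj_mem hu h)
  · refine e.idx _ _ ha.inv_left (comm_cj hu ha) (mt inv_mem_iff.1 h) fun h1 => h ?_
    simpa [mul_assoc] using e.conj_mem hu.inv_left h1

namespace Exc

variable (e : Exc A P t)
include e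

theorem gm_sq (g : Gm t s) : s * s = 1 := by
  obtain ⟨c, rfl⟩ := isConj_iff.1 g.cj
  rw [conj_mul, e.sq, mul_one, mul_inv_cancel]

theorem gm_inv (g : Gm t s) : s⁻¹ = s := inv_eq_of_mul_eq_one_right (e.gm_sq g)

theorem t_inv : t⁻¹ = t := inv_eq_of_mul_eq_one_right e.sq

theorem gm_ne_one (g : Gm t s) : s ≠ 1 := fun h => e.ne (isConj_one_left.1 (h ▸ g.cj))

theorem gm_not (g : Gm t s) : s ∉ P := e.out s g.cj g.cm g.ne

theorem other (g : Gm t s) : ∃ A' P', Exc A' P' s ∧ t ∉ P' := by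
  obtain ⟨c, rfl⟩ := isConj_iff.1 g.cj
  exact ⟨_, _, e.conj c, (e.conj c).out t g.cj.symm g.cm.symm g.ne.symm⟩

theorem gm_mul (g : Gm t s) : Gm t (s * t) := by
  obtain ⟨r, rr, hr⟩ := e.root (zpowers s) (isPGroup_zpowers_of_pow (k := 1) (by rw [pow_one, pow_two, e.gm_sq g]))
    fun x hx => by obtain ⟨i, rfl⟩ := mem_zpowers_iff.1 hx; exact g.cm.zpow_left i
  refine ⟨g.cj.trans (isConj_iff.2 ⟨r⁻¹, ?_⟩), g.cm.mul_left (.refl t), fun h => e.gm_ne_one g (by simpa using h)⟩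
  have := (hr s (mem_zpowers s)).2 (e.gm_not g)
  rw [inv_inv, ← this, ← rr]
  group

theorem l1 (g : Gm t s) {u : G} (h1 : IsConj t u) (c1 : Commute u t) (c2 : Commute u s) :
    u = t ∨ u = s ∨ u = s * t := by
  by_contra hn
  push Not at hn
  obtain ⟨A', P', e', ht⟩ := e.other g
  refine e'.out (u * t) (g.cj.symm.trans (e.gm_mul ⟨h1, c1, hn.1⟩).cj) (c2.mul_left g.cm.symm)
    (fun h => hn.2.2 (by rw [← h, mul_assoc, e.sq, mul_one])) ?_
  exact e'.idx _ _ c2 g.cm.symm (e'.out u (g.cj.symm.trans h1) c2 hn.2.1) ht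

theorem l2 (g : Gm t s) (c : Commute x s) : x * x ≠ t := fun h => by
  obtain ⟨A', P', e', ht⟩ := e.other g
  exact ht (h ▸ e'.sq_mem c)

theorem b_mem (g : Gm t s) (gb : Gm t (s * b)) : b ∈ P := by
  simpa [← mul_assoc, e.gm_sq g] using e.idx _ _ g.cm gb.cm (e.gm_not g) (e.gm_not gb)

theorem b_inv (g : Gm t s) (gb : Gm t (s * b)) : s * b * s⁻¹ = b⁻¹ := by
  rw [e.gm_inv g, eq_inv_iff_mul_eq_one, mul_assoc, e.gm_sq gb]

theorem b_zpow (g : Gm t s) (gb : Gm t (s * b)) (i : ℤ) : Gm t (s * b ^ i) := by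
  have h := e.b_inv g gb
  rcases Int.even_or_odd' i with ⟨j, rfl | rfl⟩
  · simpa only [inv_cj_zpow h, mul_neg, neg_neg] using g.conj ((g.right gb).zpow_left (-j))
  · have := gb.conj ((g.right gb).zpow_left (-j))
    rw [← mul_assoc, inv_mul_zpow h] at this
    convert this using 1
    group

theorem b_invol (g : Gm t s) (gb : Gm t (s * b)) (h : b * b = 1) : b = 1 ∨ b = t := by
  have h1 := e.b_inv g gb
  rw [inv_eq_of_mul_eq_one_right h, mul_inv_eq_iff_eq_mul] at h1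
  rcases e.l1 g gb.cj gb.cm ((Commute.refl s).mul_left h1.symm) with h2 | h2 | h2
  exacts [absurd h2 gb.ne, Or.inl (by simpa using h2), Or.inr (by simpa using h2)]

theorem b_half (g : Gm t s) (gb : Gm t (s * b)) {k : ℕ} (h : orderOf b = 2 ^ (k + 1)) : b ^ 2 ^ k = t :=
  (e.b_invol g (zpow_natCast b _ ▸ e.b_zpow g gb (2 ^ k : ℕ)) (half_sq h)).resolve_left (half_ne h)

theorem b_fix [Finite G] (g : Gm t s) (gb : Gm t (s * b)) (hS : IsPGroup 2 S) (hb : b ∈ S) {u : G} (gu : Gm t u)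
    (c : Commute b u) : b = 1 ∨ b = t := by
  refine (two_cases hS hb).imp id fun ⟨k, hk⟩ => ?_
  have := e.b_half g gb hk
  rcases k with _ | k
  · simpa using this
  · exact absurd (by rw [← pow_add, ← two_mul, ← pow_succ', this]) (e.l2 gu (c.pow_left (2 ^ k)))

theorem t_mem [Finite G] (h : IsSylowIn 2 S (centralizer {t})) : t ∈ S :=
  h.le_of_le_normalizer (isPGroup_zpowers_of_pow (k := 1) (by rw [pow_one, pow_two, e.sq]))
    (zpowers_le.2 (mem_C.2 (.refl t))) (fun x hx => by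
      rw [mem_normalizer_iff_cj, cj_zpowers, (mem_C.1 hx).mul_inv_cancel]) (mem_zpowers t)

end Exc

/-- the conjugates of `t` in `S` other than `t` form the coset `s ⟨y⟩` -/
structure Dh (t : G) (S : Subgroup G) (s y : G) (m : ℕ) : Prop where
  syl : IsSylowIn 2 S (centralizer {t})
  sS : s ∈ S
  yS : y ∈ S
  gs : Gm t s
  gy : Gm t (s * y)
  ord : orderOf y = 2 ^ (m + 1)
  all : ∀ x ∈ S, Gm t x → ∃ j : ℤ, x = s * y ^ j

theorem Exc.exists_dh [Finite G] (e : Exc A P t) (h : IsSylowIn 2 S (centralizer {t})) (hs : s ∈ S) (g : Gm t s) :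
    ∃ y m, Dh t S s y m := by
  obtain ⟨y, ⟨yS, gy⟩, hy⟩ := Set.exists_max_image {b | b ∈ S ∧ Gm t (s * b)} orderOf (Set.toFinite _)
    ⟨t, e.t_mem h, e.gm_mul g⟩
  obtain ⟨m, hm⟩ := (two_cases h.pgroup yS).resolve_left (by
    rintro rfl
    have := hy t ⟨e.t_mem h, e.gm_mul g⟩
    rw [orderOf_one] at this
    exact e.ne (orderOf_eq_one_iff.1 (le_antisymm this (orderOf_pos t))))
  have key : ∀ k, ∀ b ∈ S, Gm t (s * b) → orderOf b = 2 ^ k → b ∈ zpowers y := by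
    intro k
    induction k with
    | zero => intro b _ _ hb; rw [orderOf_eq_one_iff.1 hb]; exact one_mem _
    | succ k ih =>
      intro b hb gb ho
      obtain ⟨j, hj⟩ := exists_half hm (ih _ (mul_mem hb hb) (zpow_two b ▸ e.b_zpow g gb 2)
        (ord_sq ho)) fun hd => by
          have h1 := Nat.le_of_dvd (orderOf_pos _) hd
          have h2 := hy b ⟨hb, gb⟩
          rw [ord_sq ho] at h1
          rw [ho, pow_succ] at h2
          have : 0 < 2 ^ k := by positivity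
          omega
      have h1 : b⁻¹ * y ^ j = b * (y ^ j)⁻¹ := by
        rw [inv_mul_eq_iff_eq_mul, ← mul_assoc, hj]; group
      have h2 : Commute (b⁻¹ * y ^ j) s := by
        have h3 := e.b_inv g gb
        have h4 := inv_zpow_cj (e.b_inv g gy) j
        rw [Commute.symm_iff, Commute, SemiconjBy, ← mul_inv_eq_iff_eq_mul]
        calc _ = (s * b * s⁻¹)⁻¹ * (s * y ^ j * s⁻¹) := by group
          _ = _ := by rw [h3, h4, h1]; group
      have h3 : b = y ^ j * (b⁻¹ * y ^ j)⁻¹ := by group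
      rcases e.b_fix gb (b := b⁻¹ * y ^ j) (by simpa [mul_assoc] using e.b_zpow g gy j) h.pgroup
        (mul_mem (inv_mem hb) (zpow_mem yS j)) g h2 with h4 | h4
      · rw [h3, h4]; simp
      · rw [h3, h4, ← e.b_half g gy hm]
        exact mul_mem (zpow_mem_zpowers _ _) (inv_mem (npow_mem_zpowers _ _))
  refine ⟨y, m, h, hs, yS, g, gy, hm, fun x hx gx => ?_⟩
  obtain ⟨k, hk⟩ := isPGroup_zpowers_iff.1 (isPGroup_zpowers_of_mem h.pgroup (mul_mem (inv_mem hs) hx))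
  obtain ⟨j, hj⟩ := mem_zpowers_iff.1 (key k _ (mul_mem (inv_mem hs) hx) (by simpa using gx) hk)
  exact ⟨j, by simp [hj]⟩

namespace Dh

variable (D : Dh t S s y m)
include D

theorem cm (hx : x ∈ S) : Commute x t := mem_C.1 (D.syl.le hx)

theorem zle : zpowers y ≤ S := zpowers_le.2 D.yS

theorem dvd {i : ℤ} : y ^ i = 1 ↔ (2 : ℤ) ^ (m + 1) ∣ i := by
  rw [← orderOf_dvd_iff_zpow_eq_one, D.ord]; push_cast; rfl

theorem dvd' {i j : ℤ} (h : y ^ i = y ^ j) : (2 : ℤ) ^ (m + 1) ∣ i - j :=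
  D.dvd.1 (by rw [zpow_sub, h, mul_inv_cancel])

theorem even {i j : ℤ} (h : y ^ i = y ^ j) : (2 : ℤ) ∣ i - j :=
  (dvd_pow_self 2 m.succ_ne_zero).trans (D.dvd' h)

theorem sw (hx : x ∈ S) : ∃ i : ℤ, x * s * x⁻¹ = s * y ^ i :=
  D.all _ (mul_mem (mul_mem hx D.sS) (inv_mem hx)) (D.gs.conj (D.cm hx))

theorem nrm (hx : x ∈ S) : ∃ k : ℤ, Odd k ∧ x * y * x⁻¹ = y ^ k := by
  obtain ⟨i, hi⟩ := D.sw hx
  obtain ⟨j, hj⟩ := D.all _ (mul_mem (mul_mem hx (mul_mem D.sS D.yS)) (inv_mem hx)) (D.gy.conj (D.cm hx))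
  have : x * y * x⁻¹ = y ^ (j - i) := by
    calc _ = (x * s * x⁻¹)⁻¹ * (x * (s * y) * x⁻¹) := by group
      _ = _ := by rw [hi, hj]; group
  refine ⟨_, ?_, this⟩
  rcases Int.even_or_odd' (j - i) with ⟨l, hl | hl⟩
  · have h1 : (x * y * x⁻¹) ^ 2 ^ m = 1 := by
      rw [this, hl, ← zpow_natCast, ← zpow_mul, D.dvd]
      exact ⟨l, by push_cast; ring⟩
    rw [conj_pow, conj_eq_one_iff] at h1
    exact absurd h1 (half_ne D.ord)
  · exact ⟨l, hl⟩

theorem conj_mem (hx : x ∈ S) (hb : b ∈ zpowers y) : x * b * x⁻¹ ∈ zpowers b := by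
  obtain ⟨k, -, hk⟩ := D.nrm hx
  obtain ⟨i, rfl⟩ := mem_zpowers_iff.1 hb
  rw [cj_zpow hk, mul_comm, zpow_mul]
  exact zpow_mem_zpowers _ _

theorem le_norm [Finite G] (hb : b ∈ zpowers y) : S ≤ normalizer (zpowers b : Set G) := fun x hx =>
  mem_normalizer_of_cj_le (by rw [cj_zpowers, zpowers_le]; exact D.conj_mem hx hb)

theorem conj {h : G} (hh : Commute h t) : Dh t (cj h S) (h * s * h⁻¹) (h * y * h⁻¹) m where
  syl := D.syl.cj_of_mem (mem_C.2 hh)
  sS := conj_mem_cj.2 D.sS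
  yS := conj_mem_cj.2 D.yS
  gs := D.gs.conj hh
  gy := by rw [conj_mul]; exact D.gy.conj hh
  ord := (ord_conj _ _).trans D.ord
  all x hx gx := by
    obtain ⟨j, hj⟩ := D.all _ (mem_cj.1 hx) (by simpa using gx.conj hh.inv_left)
    exact ⟨j, by rw [conj_zpow, conj_mul, ← hj]; group⟩

theorem one_le (hb : b ∈ zpowers y) (h : b * b ≠ 1) : ∃ n, m = n + 1 := by
  obtain ⟨i, rfl⟩ := mem_zpowers_iff.1 hb
  rcases m with _ | n
  · exact absurd (by rw [← zpow_add, D.dvd]; exact ⟨i, by ring⟩) h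
  · exact ⟨n, rfl⟩

/-- squares do not swap the two classes -/
theorem sq_even (hx : x ∈ S) {i : ℤ} (h : x * x * s * (x * x)⁻¹ = s * y ^ i) : ¬Odd i := by
  obtain ⟨j, hj⟩ := D.sw hx
  obtain ⟨k, ⟨l, rfl⟩, hk⟩ := D.nrm hx
  have : s * y ^ (j + (2 * l + 1) * j) = s * y ^ i := by
    rw [← h, zpow_add, ← mul_assoc, ← cj_zpow hk, ← hj, conj_mul, ← hj]; group
  rintro ⟨n, rfl⟩
  obtain ⟨c, hc⟩ := D.even (mul_left_cancel this)
  have : 2 * (j + l * j - n - c) = 1 := by linear_combination hc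
  omega

theorem transport [Finite G] (hx : x ∈ zpowers y) {X : Subgroup G} (hX : IsPGroup 2 X) (hXH : X ≤ centralizer {t})
    {u : G} (hu : u ∈ X) (hb : b ∈ X) (nu : u ∈ normalizer (zpowers x : Set G))
    (nb : b ∈ normalizer (zpowers x : Set G)) (g : Gm t u) (gb : Gm t (u * b)) (ho : orderOf x = orderOf b) :
    x ∈ zpowers b := by
  obtain ⟨n, ⟨n1, n2⟩, hn⟩ := (D.syl.of_le (le_inf D.syl.le (D.le_norm hx)) inf_le_left).exists_cj_le
    (Q := X ⊓ normalizer (zpowers x : Set G)) hX.to_inf_left (inf_le_inf_right _ hXH)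
  obtain ⟨i, hi⟩ := D.all _ (cj_le_iff.1 hn u ⟨hu, nu⟩) (g.conj (mem_C.1 n1))
  obtain ⟨j, hj⟩ := D.all _ (cj_le_iff.1 hn _ ⟨mul_mem hu hb, mul_mem nu nb⟩) (gb.conj (mem_C.1 n1))
  have : n * b * n⁻¹ = y ^ (j - i) := by
    calc _ = (n * u * n⁻¹)⁻¹ * (n * (u * b) * n⁻¹) := by group
      _ = _ := by rw [hi, hj]; group
  rw [← conj_mem_cj (g := n), cj_zpowers]
  exact DihSyl.mem_zpowers_of_orderOf_dvd (isOfFinOrder_of_finite y)
    (zpowers_le.2 hx (conj_mem_of_mem_normalizer n2 (mem_zpowers x))) (this ▸ zpow_mem_zpowers _ _)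
    (by rw [ord_conj, ord_conj, ho])

variable (e : Exc A P t)
include e

theorem inv : s * y * s⁻¹ = y⁻¹ := e.b_inv D.gs D.gy

theorem gm (hb : b ∈ zpowers y) : Gm t (s * b) := by
  obtain ⟨i, rfl⟩ := mem_zpowers_iff.1 hb
  exact e.b_zpow D.gs D.gy i

theorem inv' (hb : b ∈ zpowers y) : s * b * s⁻¹ = b⁻¹ := e.b_inv D.gs (D.gm e hb)

theorem memP (hb : b ∈ zpowers y) : b ∈ P := e.b_mem D.gs (D.gm e hb)

theorem tpow : y ^ 2 ^ m = t := e.b_half D.gs D.gy D.ord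

theorem tz : t ∈ zpowers y := D.tpow e ▸ npow_mem_zpowers _ _

theorem invol (hb : b ∈ zpowers y) (h : b * b = 1) : b = 1 ∨ b = t := e.b_invol D.gs (D.gm e hb) h

theorem fixs (hb : b ∈ zpowers y) (h : Commute b s) : b = 1 ∨ b = t :=
  D.invol e hb (mul_eq_one_iff_eq_inv.2 (h.symm.mul_inv_cancel.symm.trans (D.inv' e hb)))

theorem eq_or {c : G} (hb : b ∈ zpowers y) (hc : c ∈ zpowers y) (h : b * b = c * c) : b = c ∨ b = c * t := by
  have : Commute c b := by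
    obtain ⟨i, rfl⟩ := mem_zpowers_iff.1 hb
    obtain ⟨j, rfl⟩ := mem_zpowers_iff.1 hc
    exact Commute.zpow_zpow_self y j i
  refine (D.invol e (mul_mem (inv_mem hc) hb) ?_).imp (fun h => (inv_mul_eq_one.1 h).symm)
    inv_mul_eq_iff_eq_mul.1
  rw [mul_assoc, ← mul_assoc b, ← this.inv_left.eq, mul_assoc, h]; group

theorem f4 {c u : G} (hc : c ∈ zpowers y) (cc : c * c = t) (hu : u ∈ S) (uP : u ∈ P) (us : Commute u s) :
    Commute u c := by
  obtain ⟨r, rr, hr⟩ := e.root S D.syl.pgroup fun x hx => D.cm hx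
  have cr := (hr c (D.zle hc)).1 (D.memP e hc)
  have h1 : Commute (r * c) s := by
    rw [Commute.symm_iff, Commute, SemiconjBy, ← mul_inv_eq_iff_eq_mul, ← conj_mul, (hr s D.sS).2 (e.gm_not D.gs),
      D.inv' e hc, ← mul_inv_rev, inv_eq_iff_mul_eq_one]
    calc _ = c * (r * r) * c := by group
      _ = 1 := by rw [rr, (D.cm (D.zle hc)).eq, mul_assoc, cc, e.sq]
  rcases D.eq_or e (zpowers_le.2 hc (D.conj_mem hu hc)) hc
    (by rw [conj_mul, cc, (D.cm hu).mul_inv_cancel]) with h | h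
  · exact mul_inv_eq_iff_eq_mul.1 h
  · obtain ⟨A', P', e', ht⟩ := e.other D.gs
    have := e'.comm_mem h1 us
    rw [← conj_mul, ((hr u hu).1 uP).mul_inv_cancel, h, ← mul_assoc r, inv_mul_cancel_left] at this
    exact absurd this ht

theorem di [Finite G] {h : G} (hb : b ∈ zpowers y) (h1 : b * b ≠ 1) (hh : Commute h t) (hx : x = h * b * h⁻¹)
    (xS : x ∈ S) (xx : x * x ∈ zpowers y) :
    x ∈ zpowers y ∨ (x * x = t ∧ x * y * x⁻¹ = y⁻¹ ∧ ∃ i : ℤ, Odd i ∧ x * s * x⁻¹ = s * y ^ i) := by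
  obtain ⟨n, rfl⟩ := D.one_le hb h1
  have xP : x ∈ P := hx ▸ e.conj_mem hh (D.memP e hb)
  have x1 : x * x ≠ 1 := by rwa [hx, conj_mul, Ne, conj_eq_one_iff]
  obtain ⟨a, ha⟩ := (two_cases D.syl.pgroup xS).resolve_left (by rintro rfl; simp at x1)
  obtain ⟨i, hi⟩ := D.sw xS
  rcases Int.even_or_odd' i with ⟨j, rfl | rfl⟩
  · left
    obtain ⟨u, rfl⟩ : ∃ u, x = y ^ (-j) * u := ⟨y ^ j * x, by group⟩
    have uS : u ∈ S := (mul_mem_cancel_left (zpow_mem D.yS _)).1 xS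
    have us : Commute u s := by
      have := inv_cj_zpow (D.inv e) (-j)
      rw [mul_neg, neg_neg, ← hi] at this
      exact mul_inv_eq_iff_eq_mul.1 ((MulAut.conj (y ^ (-j))).injective (by
        rw [MulAut.conj_apply, MulAut.conj_apply, this]; group))
    obtain ⟨k, -, hk⟩ := D.nrm uS
    obtain ⟨l, rfl⟩ : ∃ l, k = 4 * l + 1 := by
      have := (D.f4 e (zpow_mem_zpowers y (2 ^ n)) (by
        rw [← D.tpow e, ← zpow_add, ← zpow_natCast]; congr 1; push_cast; ring) uS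
        ((mul_mem_cancel_left (D.memP e (zpow_mem_zpowers _ _))).1 xP) us).mul_inv_cancel
      rw [cj_zpow hk] at this
      obtain ⟨l, hl⟩ := D.dvd' this
      exact ⟨l, mul_right_cancel₀ (b := 2 ^ n) (by positivity) (by linear_combination hl)⟩
    have hk' := cj_zpow hk (-j)
    have h2 : y ^ (-j) * u * (y ^ (-j) * u) = (y ^ (-j) * y ^ (-j)) ^ (2 * l + 1) * (u * u) := by
      calc _ = y ^ (-j) * (u * y ^ (-j) * u⁻¹) * (u * u) := by group
        _ = _ := by rw [hk']; group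
    have uu : u * u = 1 := (D.fixs e ((mul_mem_cancel_left (zpow_mem (mul_mem (zpow_mem_zpowers _ _)
      (zpow_mem_zpowers _ _)) _)).1 (h2 ▸ xx)) (us.mul_left us)).resolve_right (e.l2 D.gs us)
    rw [uu, mul_one] at h2
    obtain ⟨c, hc⟩ := (two_cases D.syl.pgroup (zpow_mem D.yS (-j))).resolve_left fun h => x1 (by
      rw [h2, h]; simp)
    have h3 : y ^ (-j) * y ^ (-j) ∈ zpowers (y ^ (-j) * u * (y ^ (-j) * u)) :=
      h2 ▸ mem_zpowers_odd (ord_sq hc) (odd_two_mul_add_one l)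
    have h4 : y ^ (-j) * y ^ (-j) ∈ zpowers (y ^ (-j) * u) :=
      zpowers_le.2 (mul_mem (mem_zpowers _) (mem_zpowers _)) h3
    refine zpowers_le.2 (zpow_mem_zpowers y (-j)) ((D.conj hh).transport ?_ D.syl.pgroup D.syl.le D.sS
      (zpow_mem D.yS _) (mem_normalizer_of_cj_le ?_) (mem_normalizer_of_cj_le ?_) D.gs
      (D.gm e (zpow_mem_zpowers _ _)) ?_)
    · rw [hx, ← cj_zpowers]; exact conj_mem_cj.2 hb
    · rw [cj_zpowers, zpowers_le, ← conj_mul, us.symm.mul_inv_cancel, D.inv' e (zpow_mem_zpowers _ _)]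
      convert mul_mem (inv_mem h4) (mem_zpowers _) using 1
      group
    · rw [cj_zpowers, zpowers_le]
      convert mul_mem (zpow_mem h4 (-(2 * l))) (mem_zpowers _) using 1
      calc _ = y ^ (-j) * y ^ (-j) * (u * y ^ (-j) * u⁻¹)⁻¹ * u := by group
        _ = _ := by rw [hk']; group
    · have h5 := orderOf_dvd_of_mem_zpowers h3
      have h6 := orderOf_dvd_of_mem_zpowers (h2 ▸ zpow_mem_zpowers (y ^ (-j) * y ^ (-j)) (2 * l + 1))
      rw [ord_sq ha, ord_sq hc] at h5 h6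
      rw [ha, hc, pow_succ, pow_succ, Nat.dvd_antisymm h5 h6]
  · right
    obtain ⟨l, hl⟩ := exists_half D.ord xx fun hd => by
      have h2 := Nat.le_of_dvd (orderOf_pos _) hd
      rw [ord_sq ha] at h2
      have h3 := Nat.le_of_dvd (orderOf_pos _) (orderOf_dvd_of_mem_zpowers hb)
      rw [← ord_conj h, ← hx, ha, pow_succ] at h3
      have : 0 < 2 ^ a := by positivity
      omega
    obtain ⟨k, -, hk⟩ := D.nrm xS
    have h2 : y ^ ((2 * j + 1) * (1 + k)) = y ^ (-(2 * (2 * l))) := by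
      apply mul_left_cancel (a := s)
      rw [← inv_cj_zpow (D.inv e), ← hl, mul_add, mul_one, zpow_add, ← mul_assoc, mul_comm _ k, ← cj_zpow hk, ← hi,
        conj_mul, ← hi]
      group
    obtain ⟨c, rfl⟩ : ∃ c, k = 4 * c - 1 := by
      obtain ⟨d, hd⟩ := D.dvd' h2
      have : (4 : ℤ) ∣ (2 * j + 1) * (1 + k) := ⟨2 ^ n * d - l, by linear_combination hd⟩
      obtain ⟨c, hc⟩ := (IsCoprime.pow_left (m := 2) (Int.isCoprime_two_left.2
        (odd_two_mul_add_one j))).dvd_of_dvd_mul_left this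
      exact ⟨c, by linear_combination hc⟩
    have h3 : x * x * (x * x) = 1 := by
      obtain ⟨d, hd⟩ := isPGroup_zpowers_iff.1 (isPGroup_zpowers_of_mem D.syl.pgroup
        (mul_mem (mul_mem xS xS) (mul_mem xS xS)))
      have h4 := mem_zpowers_odd hd (i := 2 * c - 1) ⟨c - 1, by ring⟩
      have h5 : (x * x * (x * x)) ^ (2 * c - 1) = 1 := by
        have := cj_zpow hk (2 * l)
        rw [← hl, ← mul_assoc, mul_inv_cancel_right, mul_comm (4 * c - 1), zpow_mul, ← hl] at this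
        calc _ = (x * x) ^ (4 * c - 1) * (x * x)⁻¹ := by
              generalize x * x = v; rw [← zpow_two, ← zpow_mul]; group
          _ = 1 := by rw [← this, mul_inv_cancel]
      rwa [h5, zpowers_one_eq_bot, mem_bot] at h4
    refine ⟨(D.invol e xx h3).resolve_left x1, ?_, _, odd_two_mul_add_one j, hi⟩
    have h4 : (y ^ (4 * c)) ^ (2 * j + 1) = 1 := by
      rw [hl] at h3
      calc _ = y ^ ((2 * j + 1) * (1 + (4 * c - 1))) := by group
        _ = (y ^ (2 * l) * y ^ (2 * l))⁻¹ := by rw [h2]; group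
        _ = 1 := by rw [h3, inv_one]
    obtain ⟨d, hd⟩ := isPGroup_zpowers_iff.1 (isPGroup_zpowers_of_mem D.syl.pgroup (zpow_mem D.yS (4 * c)))
    have h5 := mem_zpowers_odd hd (odd_two_mul_add_one j)
    rw [h4, zpowers_one_eq_bot, mem_bot] at h5
    rw [hk, zpow_sub, h5]
    simp

theorem big [Finite G] {h : G} (hh : Commute h t) : ∀ k, ∀ b ∈ zpowers y, orderOf b = 2 ^ (k + 3) →
    h * b * h⁻¹ ∈ S → h * b * h⁻¹ ∈ zpowers y := by
  have step : ∀ k, ∀ b ∈ zpowers y, orderOf b = 2 ^ (k + 3) → h * b * h⁻¹ ∈ S →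
      h * (b * b) * h⁻¹ ∈ zpowers y → h * b * h⁻¹ ∈ zpowers y := fun k b hb ho hS h2 => by
    have h3 : ¬orderOf (b * b) ∣ 2 := by
      rw [ord_sq ho]
      exact fun h => absurd (Nat.le_of_dvd two_pos h) (by rw [pow_succ, pow_succ]; have := k.two_pow_pos; omega)
    refine (D.di e hb (fun h => h3 (by simp [h])) hh rfl hS (by rwa [conj_mul])).resolve_right fun h4 => h3 ?_
    rw [← ord_conj h, ← conj_mul, h4.1, orderOf_dvd_iff_pow_eq_one, pow_two, e.sq]
  intro k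
  induction k with
  | zero =>
    intro b hb ho hS
    refine step 0 b hb ho hS ?_
    have h1 := ord_sq ho
    have h2 : b * b * (b * b) ≠ 1 := by simpa [pow_two] using half_ne h1
    have h3 := (D.invol e (mul_mem (mul_mem hb hb) (mul_mem hb hb)) (by
      simpa [pow_two] using half_sq h1)).resolve_left h2
    refine (D.di e (mul_mem hb hb) h2 hh rfl (by rw [← conj_mul]; exact mul_mem hS hS) (by
      rw [conj_mul, h3, hh.mul_inv_cancel]; exact D.tz e)).resolve_right fun ⟨_, _, i, hi, h4⟩ => ?_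
    rw [← conj_mul] at h4
    exact D.sq_even hS h4 hi
  | succ k ih =>
    intro b hb ho hS
    exact step _ b hb ho hS (ih _ (mul_mem hb hb) (ord_sq ho) (by rw [← conj_mul]; exact mul_mem hS hS))

end Dh

end CfsgLib.StdExc
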