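import Mathlib
import Cfsg.Prelude.Def_CaseTheorems
import Cfsg.Agent.Lib.Tech.SylowIn

/-!
# A standard subgroup with a unique involution: the frame in a Sylow 2-subgroup
-/

set_option autoImplicit false

namespace CfsgLib.StdExc

open Subgroup Cfsg CfsgLib.Tech

variable {G : Type*} [Group G]

/-- `A` has the quaternion Sylow 2-subgroup `⟨x, w⟩`, its centraliser `K` the cyclic one `⟨r⟩`, both with involution `t` -/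
structure Rk (A K S : Subgroup G) (t x w r : G) (n : ℕ) : Prop where
  ne : t ≠ 1
  sq : t * t = 1
  syl : IsSylowIn 2 S ⊤
  no2 : ∀ M : Subgroup G, M.index ≠ 2
  le : ∀ y ∈ S, Commute y t
  nA : ∀ h, Commute h t → h ∈ normalizer (A : Set G)
  nK : ∀ h, Commute h t → h ∈ normalizer (K : Set G)
  comm : ∀ a ∈ A, ∀ k ∈ K, Commute a k
  tK : t ∈ K
  inter : ∀ y ∈ S, y ∈ A → y ∈ K → y = 1 ∨ y = t
  dec : ∀ y ∈ S, y ∈ A ⊔ K → ∃ a ∈ S ⊓ A, ∃ k ∈ S ⊓ K, y = a * k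
  msq : ∀ h, Commute h t → h * h ∈ A ⊔ K
  four : ∀ a b c, Commute a t → Commute b t → Commute c t → a ∉ A ⊔ K → b ∉ A ⊔ K → a * b ∉ A ⊔ K →
    c ∈ A ⊔ K ∨ c * a ∈ A ⊔ K ∨ c * b ∈ A ⊔ K ∨ c * (a * b) ∈ A ⊔ K
  two : 2 ≤ n
  xS : x ∈ S
  xA : x ∈ A
  wS : w ∈ S
  wA : w ∈ A
  ord : orderOf x = 2 ^ n
  pow : x ^ 2 ^ (n - 1) = t
  wsq : w * w = t
  inv : w * x * w⁻¹ = x⁻¹
  wx : w ∉ zpowers x
  memQ : ∀ y ∈ S, y ∈ A → y ∈ zpowers x ∨ w⁻¹ * y ∈ zpowers x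
  nx : ∀ y ∈ S, y * x * y⁻¹ ∈ zpowers x
  cyc : S ⊓ K = zpowers r
  typ : ∀ s, IsConj t s → Commute s t → s ≠ t → ∀ y, Commute y s → y * y = t → s ∈ A ⊔ K
  vcl : ∀ a ∈ A, ∀ k ∈ K, ∀ a' ∈ A, ∀ k' ∈ K, a * a = t → k * k = t → a' * a' = t → k' * k' = t →
    ∃ h, Commute h t ∧ h * (a * k) * h⁻¹ = a' * k'
  inn : ∀ s, IsConj t s → Commute s t → s ≠ t → s ∈ A ⊔ K →
    (∃ a ∈ A, ∃ k ∈ K, a * a = t ∧ k * k = t ∧ s = a * k) ∧ ∃ g, g * t * g⁻¹ = s ∧ g * s * g⁻¹ = t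
  ex : ∃ s ∈ S, IsConj t s ∧ s ≠ t

end CfsgLib.StdExc
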